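import Mathlib

/-! Generators of a finite field and consecutive squares generating it. -/

set_option autoImplicit false

namespace CfsgLib.SL2Pres

open Polynomial IntermediateField Module

variable {F : Type*} [Field F] [Fintype F] {p : ℕ} [Fact p.Prime] [Algebra (ZMod p) F]

theorem surjective_aeval_of_adjoin {a : F} (h : (ZMod p)⟮a⟯ = ⊤) :
    Function.Surjective (aeval a : (ZMod p)[X] → F) := by
  intro t
  have h2 : t ∈ Algebra.adjoin (ZMod p) ({a} : Set F) := by
    rw [← IntermediateField.adjoin_simple_toSubalgebra_of_isAlgebraic (IsAlgebraic.of_finite (ZMod p) a), h]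
    trivial
  rwa [Algebra.adjoin_singleton_eq_range_aeval, AlgHom.mem_range] at h2

theorem card_adjoin (a : F) : Nat.card (ZMod p)⟮a⟯ = p ^ finrank (ZMod p) (ZMod p)⟮a⟯ := by
  rw [Module.natCard_eq_pow_finrank (K := ZMod p), Nat.card_zmod]

theorem two_mul_le_of_adjoin_ne_top {a : F} (h : (ZMod p)⟮a⟯ ≠ ⊤) :
    2 * finrank (ZMod p) (ZMod p)⟮a⟯ ≤ finrank (ZMod p) F := by
  have h1 := Module.finrank_mul_finrank (ZMod p) (ZMod p)⟮a⟯ F
  have h2 : finrank (ZMod p)⟮a⟯ F ≠ 1 := fun h2 =>
    h (IntermediateField.eq_of_le_of_finrank_eq le_top (by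
      rw [IntermediateField.finrank_top', ← h1, h2, mul_one]))
  have h3 : 0 < finrank (ZMod p)⟮a⟯ F := Module.finrank_pos
  rw [← h1, mul_comm]
  exact Nat.mul_le_mul_left _ (by omega)

/-- An element of proper subfields satisfies `a ^ (p ^ d) = a` with `2 d ≤ n`. -/
theorem pow_eq_self_of_adjoin_ne_top {a : F} (h : (ZMod p)⟮a⟯ ≠ ⊤) :
    ∃ d ∈ Finset.Icc 1 (finrank (ZMod p) F / 2), a ^ (p ^ d) = a := by
  refine ⟨finrank (ZMod p) (ZMod p)⟮a⟯, ?_, ?_⟩
  · rw [Finset.mem_Icc]
    have := two_mul_le_of_adjoin_ne_top h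
    have h2 : 0 < finrank (ZMod p) (ZMod p)⟮a⟯ := Module.finrank_pos
    omega
  · have := Fintype.ofFinite (ZMod p)⟮a⟯
    have h2 := FiniteField.pow_card (⟨a, IntermediateField.mem_adjoin_simple_self _ a⟩ : (ZMod p)⟮a⟯)
    rw [← Nat.card_eq_fintype_card, card_adjoin] at h2
    exact congrArg Subtype.val h2

theorem orderOf_dvd_of_adjoin {a : F} (ha : a ≠ 0) :
    orderOf a ∣ p ^ finrank (ZMod p) (ZMod p)⟮a⟯ - 1 := by
  have := Fintype.ofFinite (ZMod p)⟮a⟯
  have h0 : (⟨a, IntermediateField.mem_adjoin_simple_self _ a⟩ : (ZMod p)⟮a⟯) ≠ 0 :=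
    fun h => ha (congrArg Subtype.val h)
  have h2 := FiniteField.pow_card_sub_one_eq_one _ h0
  rw [← Nat.card_eq_fintype_card, card_adjoin] at h2
  exact orderOf_dvd_of_pow_eq_one (congrArg Subtype.val h2)

theorem card_eq_pow : Fintype.card F = p ^ finrank (ZMod p) F := by
  rw [← Nat.card_eq_fintype_card, Module.natCard_eq_pow_finrank (K := ZMod p), Nat.card_zmod]

/-- The square of a generator of `Fˣ` generates `F`. -/
theorem adjoin_sq_eq_top {ω : Fˣ} (hω : orderOf ω = Fintype.card F - 1) :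
    (ZMod p)⟮((ω : F) ^ 2)⟯ = ⊤ := by
  by_contra h
  set d := finrank (ZMod p) (ZMod p)⟮((ω : F) ^ 2)⟯ with hd
  have h1 := orderOf_dvd_of_adjoin (p := p) (a := (ω : F) ^ 2) (pow_ne_zero _ ω.ne_zero)
  have h2 := two_mul_le_of_adjoin_ne_top h
  have hd0 : 0 < d := Module.finrank_pos
  have hp := (Fact.out : p.Prime).two_le
  have hpd : 2 ≤ p ^ d := hp.trans (Nat.le_self_pow hd0.ne' p)
  have h3 : orderOf ω ∣ 2 * (p ^ d - 1) := by
    refine orderOf_dvd_of_pow_eq_one ?_
    have h4 := orderOf_dvd_iff_pow_eq_one.1 h1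
    rw [← pow_mul] at h4
    exact Units.ext (by rw [Units.val_pow_eq_pow_val, Units.val_one]; exact h4)
  have h5 : p ^ d * p ^ d ≤ Fintype.card F := by
    rw [card_eq_pow (p := p), ← pow_add]
    exact Nat.pow_le_pow_right (by omega) (by omega)
  have h6 := Nat.le_of_dvd (by omega) h3
  rw [hω] at h6
  have : 2 * p ^ d ≤ p ^ d * p ^ d := Nat.mul_le_mul_right _ hpd
  omega

theorem two_mul_sum_pow_le (hp : 3 ≤ p) (m : ℕ) : 2 * ∑ d ∈ Finset.Icc 1 m, p ^ d ≤ 3 * p ^ m := by
  induction m with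
  | zero => simp
  | succ k ih =>
    rw [Finset.sum_Icc_succ_top (by omega), mul_add]
    have : 3 * p ^ k ≤ p ^ (k + 1) := by rw [pow_succ']; exact Nat.mul_le_mul_right _ hp
    omega

/-- For `n ≥ 3` there are consecutive non-zero squares generating the field. -/
theorem exists_consecutive_squares (hp : 3 ≤ p) (hn : 3 ≤ finrank (ZMod p) F) :
    ∃ y z : F, y ≠ 0 ∧ z ≠ 0 ∧ z ^ 2 = y ^ 2 + 1 ∧ (ZMod p)⟮y ^ 2⟯ = ⊤ := by
  classical
  have h2 : (2 : F) ≠ 0 := by
    intro h
    have : ((2 : ℕ) : ZMod p) = 0 := by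
      apply (algebraMap (ZMod p) F).injective
      rw [map_natCast, map_zero]; exact_mod_cast h
    rw [ZMod.natCast_eq_zero_iff] at this
    have := Nat.le_of_dvd two_pos this
    omega
  set n := finrank (ZMod p) F with hn'
  set m := n / 2 with hm
  let T : Finset F := {t | t ≠ 0 ∧ t ^ 2 ≠ 1 ∧ t ^ 2 ≠ -1}
  let f : F → F := fun t => ((t - t⁻¹) / 2) ^ 2
  have hf : ∀ s ∈ T, ∀ t ∈ T, f t = f s → t ∈ ({s, -s, s⁻¹, -s⁻¹} : Finset F) := by
    intro s hs t ht h
    simp only [T, Finset.mem_filter, Finset.mem_univ, true_and] at hs ht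
    have hs0 := hs.1
    have ht0 := ht.1
    have hsq : (t - t⁻¹) ^ 2 = (s - s⁻¹) ^ 2 := by
      simp only [f, div_pow] at h
      exact (div_left_inj' (pow_ne_zero 2 h2)).1 h
    simp only [Finset.mem_insert, Finset.mem_singleton]
    rcases sq_eq_sq_iff_eq_or_eq_neg.1 hsq with e | e
    · have : (t - s) * (t + s⁻¹) = 0 := by
        have e' := congrArg (· * t) e
        simp only [sub_mul, inv_mul_cancel₀ ht0] at e'
        linear_combination e' + mul_inv_cancel₀ hs0 * (-1)
      rcases mul_eq_zero.1 this with h1 | h1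
      · exact Or.inl (sub_eq_zero.1 h1)
      · exact Or.inr (Or.inr (Or.inr (eq_neg_of_add_eq_zero_left h1)))
    · have : (t + s) * (t - s⁻¹) = 0 := by
        have e' := congrArg (· * t) e
        simp only [sub_mul, neg_mul, inv_mul_cancel₀ ht0] at e'
        linear_combination e' + mul_inv_cancel₀ hs0 * (-1)
      rcases mul_eq_zero.1 this with h1 | h1
      · exact Or.inr (Or.inl (eq_neg_of_add_eq_zero_left h1))
      · exact Or.inr (Or.inr (Or.inl (sub_eq_zero.1 h1)))
  have hT : Fintype.card F ≤ T.card + 5 := by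
    let R : Finset F := ({0} : Finset F) ∪ (Polynomial.nthRoots 2 (1 : F)).toFinset ∪ (Polynomial.nthRoots 2 (-1 : F)).toFinset
    have hsub : (Finset.univ : Finset F) ⊆ T ∪ R := by
      intro t _
      simp only [T, R, Finset.mem_union, Finset.mem_filter, Finset.mem_univ, true_and, Finset.mem_singleton,
        Multiset.mem_toFinset, Polynomial.mem_nthRoots two_pos]
      tauto
    have hR : R.card ≤ 5 := by
      have a1 := (Multiset.toFinset_card_le (Polynomial.nthRoots 2 (1 : F))).trans (Polynomial.card_nthRoots 2 (1 : F))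
      have a2 := (Multiset.toFinset_card_le (Polynomial.nthRoots 2 (-1 : F))).trans (Polynomial.card_nthRoots 2 (-1 : F))
      refine (Finset.card_union_le _ _).trans ?_
      refine (Nat.add_le_add_right (Finset.card_union_le _ _) _).trans ?_
      simp only [Finset.card_singleton]
      omega
    have := (Finset.card_le_card hsub).trans (Finset.card_union_le _ _)
    rw [Finset.card_univ] at this
    omega
  have him : T.card ≤ 4 * (T.image f).card := by
    refine Finset.card_le_mul_card_image T 4 ?_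
    intro b hb
    obtain ⟨s, hs, rfl⟩ := Finset.mem_image.1 hb
    refine (Finset.card_le_card (t := ({s, -s, s⁻¹, -s⁻¹} : Finset F)) ?_).trans Finset.card_le_four
    intro t ht
    rw [Finset.mem_filter] at ht
    exact hf s hs t ht.1 ht.2
  let Bad : Finset F := (Finset.Icc 1 m).biUnion fun d => ({a | a ^ (p ^ d) = a} : Finset F)
  have hBad : Bad.card ≤ ∑ d ∈ Finset.Icc 1 m, p ^ d := by
    refine Finset.card_biUnion_le.trans (Finset.sum_le_sum fun d hd => ?_)
    rw [Finset.mem_Icc] at hd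
    have hd1 : 1 < p ^ d := Nat.one_lt_pow (by omega) (by omega)
    have hne := FiniteField.X_pow_card_sub_X_ne_zero F hd1
    have hdeg := FiniteField.X_pow_card_sub_X_natDegree_eq F hd1
    have hsub : ({a | a ^ (p ^ d) = a} : Finset F) ⊆ ((X : F[X]) ^ (p ^ d) - X).roots.toFinset := by
      intro a ha
      rw [Finset.mem_filter] at ha
      rw [Multiset.mem_toFinset, mem_roots hne, IsRoot, eval_sub, eval_pow, eval_X, ha.2, sub_self]
    exact ((Finset.card_le_card hsub).trans (Multiset.toFinset_card_le _)).trans ((card_roots' _).trans hdeg.le)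
  have hlt : Bad.card < (T.image f).card := by
    have h1 := two_mul_sum_pow_le hp m
    have h3 : 9 * p ^ m ≤ Fintype.card F := by
      rw [card_eq_pow (p := p)]
      have : p ^ (m + 2) ≤ p ^ n := Nat.pow_le_pow_right (by omega) (by omega)
      refine le_trans ?_ this
      rw [pow_add, mul_comm 9]
      exact Nat.mul_le_mul_left _ (by nlinarith)
    have h4 : 3 ≤ p ^ m := hp.trans (Nat.le_self_pow (by omega) p)
    omega
  obtain ⟨b, hb, hnb⟩ := Finset.exists_mem_notMem_of_card_lt_card hlt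
  obtain ⟨t, ht, rfl⟩ := Finset.mem_image.1 hb
  simp only [T, Finset.mem_filter, Finset.mem_univ, true_and] at ht
  have ht0 := ht.1
  refine ⟨(t - t⁻¹) / 2, (t + t⁻¹) / 2, ?_, ?_, ?_, ?_⟩
  · intro h
    field_simp at h
    exact ht.2.1 (by linear_combination h)
  · intro h
    field_simp at h
    exact ht.2.2 (by linear_combination h)
  · field_simp
    ring
  · by_contra h
    obtain ⟨d, hd, hpd⟩ := pow_eq_self_of_adjoin_ne_top h
    exact hnb (Finset.mem_biUnion.2 ⟨d, hd, by simpa [f] using hpd⟩)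

theorem exists_generator : ∃ ω : Fˣ, orderOf ω = Fintype.card F - 1 ∧ ∀ t : F, t ≠ 0 → ∃ k : ℕ, t = (ω : F) ^ k := by
  obtain ⟨ω, hω⟩ := IsCyclic.exists_generator (α := Fˣ)
  refine ⟨ω, ?_, fun t ht => ?_⟩
  · rw [orderOf_eq_card_of_forall_mem_zpowers hω, Nat.card_units, Nat.card_eq_fintype_card]
  · obtain ⟨k, hk⟩ := mem_powers_iff_mem_zpowers.2 (hω (Units.mk0 t ht))
    refine ⟨k, ?_⟩
    have := congrArg Units.val hk
    simpa using this.symm

end CfsgLib.SL2Pres
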