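import Mathlib

/-!
# Bruhat counting: a group with the relations of `SL₂(q)` in abstract form has at most
`q M (q+1)` elements, `M` a period of the torus generator.
-/

set_option autoImplicit false

namespace CfsgLib.SL2Pres

variable {G F : Type*} [Group G] [Field F] [Fintype F]

theorem bruhat_bound (Xf : F → G) (h w : G) (ω : Fˣ) (M : ℕ) (hM : 0 < M)
    (hgen : Subgroup.closure (Set.range Xf ∪ {h, w}) = ⊤)
    (hadd : ∀ s t, Xf (s + t) = Xf s * Xf t)
    (hh : ∀ t, h * Xf t * h⁻¹ = Xf ((ω : F) ^ 2 * t)) (hM1 : h ^ M = 1)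
    (hwh : w * h * w⁻¹ = h⁻¹) (hw2 : ∃ k : ℤ, w * w = h ^ k)
    (hwX : ∀ t : F, t ≠ 0 → ∃ (a b : F) (k : ℤ), w * Xf t * w⁻¹ = Xf a * h ^ k * w * Xf b) :
    Finite G ∧ Nat.card G ≤ Fintype.card F * M * (Fintype.card F + 1) := by
  classical
  have h0 : Xf 0 = 1 := by simpa using hadd 0 0
  -- moving torus elements to the left
  have hXh : ∀ (k : ℤ) (t : F), Xf t * h ^ k = h ^ k * Xf (((ω ^ (-(2 * k)) : Fˣ) : F) * t) := by
    intro k
    induction k using Int.induction_on with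
    | zero => intro t; simp
    | succ k ih =>
      intro t
      rw [zpow_add_one, ← mul_assoc, ih, mul_assoc, mul_assoc]
      congr 1
      have := hh (((ω ^ (-(2 * ((k : ℤ) + 1))) : Fˣ) : F) * t)
      rw [mul_inv_eq_iff_eq_mul] at this
      rw [this]
      congr 2
      rw [← Units.val_pow_eq_pow_val, ← mul_assoc, ← Units.val_mul, ← zpow_natCast, ← zpow_add]
      congr 3
      push_cast; ring
    | pred k ih =>
      intro t
      rw [zpow_sub_one, ← mul_assoc, ih, mul_assoc, mul_assoc]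
      congr 1
      have := hh (((ω ^ (-(2 * (-(k : ℤ)))) : Fˣ) : F) * t)
      rw [mul_inv_eq_iff_eq_mul] at this
      rw [eq_inv_mul_iff_mul_eq, ← mul_assoc, this, mul_inv_cancel_right]
      congr 1
      rw [← Units.val_pow_eq_pow_val, ← mul_assoc, ← Units.val_mul, ← zpow_natCast, ← zpow_add]
      congr 3
      push_cast; ring
  have hwk : ∀ k : ℤ, w * h ^ k = h ^ (-k) * w := by
    intro k
    rw [zpow_neg, ← inv_zpow, ← hwh, conj_zpow, inv_mul_cancel_right]
  let f : (F × Fin M) ⊕ (F × Fin M × F) → G :=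
    Sum.elim (fun p => Xf p.1 * h ^ (p.2 : ℕ)) (fun p => Xf p.1 * h ^ (p.2.1 : ℕ) * w * Xf p.2.2)
  have hred : ∀ k : ℤ, ∃ i : Fin M, h ^ k = h ^ (i : ℕ) := by
    intro k
    have h1 : 0 ≤ k % (M : ℤ) := Int.emod_nonneg _ (by omega)
    have h2 : k % (M : ℤ) < M := Int.emod_lt_of_pos _ (by omega)
    refine ⟨⟨(k % M).toNat, by omega⟩, ?_⟩
    simp only
    conv_lhs => rw [← Int.emod_add_mul_ediv k M, zpow_add, zpow_mul, zpow_natCast, hM1, one_zpow, mul_one]
    rw [← zpow_natCast, Int.toNat_of_nonneg h1]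
  have hB : ∀ (a : F) (k : ℤ), Xf a * h ^ k ∈ Set.range f := by
    intro a k
    obtain ⟨i, hi⟩ := hred k
    exact ⟨Sum.inl (a, i), by rw [hi]; rfl⟩
  have hBw : ∀ (a : F) (k : ℤ) (b : F), Xf a * h ^ k * w * Xf b ∈ Set.range f := by
    intro a k b
    obtain ⟨i, hi⟩ := hred k
    exact ⟨Sum.inr (a, i, b), by rw [hi]; rfl⟩
  have hmem : ∀ y ∈ Set.range f, (∃ (a : F) (k : ℤ), y = Xf a * h ^ k) ∨
      ∃ (a : F) (k : ℤ) (b : F), y = Xf a * h ^ k * w * Xf b := by
    rintro y ⟨⟨a, i⟩ | ⟨a, i, b⟩, rfl⟩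
    · exact Or.inl ⟨a, (i : ℕ), by simp [f]⟩
    · exact Or.inr ⟨a, (i : ℕ), b, by simp [f]⟩
  have hhk : ∀ (a : F), h * Xf a = Xf ((ω : F) ^ 2 * a) * h := fun a => mul_inv_eq_iff_eq_mul.1 (hh a)
  obtain ⟨z, hz⟩ := hw2
  have hstep : ∀ g ∈ Set.range Xf ∪ {h, w}, ∀ y ∈ Set.range f, g * y ∈ Set.range f := by
    intro g hg y hy
    rcases hg with ⟨s, rfl⟩ | rfl | rfl
    · rcases hmem y hy with ⟨a, k, rfl⟩ | ⟨a, k, b, rfl⟩
      · rw [← mul_assoc, ← hadd]; exact hB _ _
      · rw [← mul_assoc, ← mul_assoc, ← mul_assoc, ← hadd]; exact hBw _ _ _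
    · rcases hmem y hy with ⟨a, k, rfl⟩ | ⟨a, k, b, rfl⟩
      · rw [← mul_assoc, hhk, mul_assoc, ← zpow_one_add]; exact hB _ _
      · rw [show g * (Xf a * g ^ k * w * Xf b) = (g * Xf a) * g ^ k * w * Xf b by group, hhk,
          mul_assoc (Xf _) g, ← zpow_one_add]
        exact hBw _ _ _
    · rcases hmem y hy with ⟨a, k, rfl⟩ | ⟨a, k, b, rfl⟩
      · rw [hXh, ← mul_assoc, hwk]
        have := hBw 0 (-k) (((ω ^ (-(2 * k)) : Fˣ) : F) * a)
        rwa [h0, one_mul] at this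
      · set a' := ((ω ^ (-(2 * k)) : Fˣ) : F) * a with ha'
        rw [hXh k a, ← ha', show g * (h ^ k * Xf a' * g * Xf b) = (g * h ^ k) * (Xf a' * g) * Xf b by group,
          hwk]
        by_cases ha : a' = 0
        · rw [ha, h0, one_mul, mul_assoc (h ^ (-k)) g g, hz, ← zpow_add]
          obtain ⟨i, hi⟩ := hred (-k + z)
          have := hB (((ω ^ (2 * (-k + z)) : Fˣ) : F) * b) (-k + z)
          rw [hXh, ← mul_assoc, ← Units.val_mul, ← zpow_add] at this
          simpa using this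
        · obtain ⟨c, d, e, hce⟩ := hwX a' ha
          rw [show h ^ (-k) * g * (Xf a' * g) * Xf b = h ^ (-k) * (g * Xf a' * g⁻¹) * (g * g) * Xf b by group,
            hce, hz]
          set d' := ((ω ^ (-(2 * z)) : Fˣ) : F) * d
          rw [show h ^ (-k) * (Xf c * h ^ e * g * Xf d) * h ^ z * Xf b =
              h ^ (-k) * Xf c * h ^ e * g * (Xf d * h ^ z) * Xf b by group, hXh z d]
          rw [show h ^ (-k) * Xf c * h ^ e * g * (h ^ z * Xf d') * Xf b =
              h ^ (-k) * Xf c * (h ^ e * (g * h ^ z)) * (Xf d' * Xf b) by group, hwk z, ← hadd]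
          rw [← mul_assoc (h ^ e), ← zpow_add]
          set c' := ((ω ^ (-(2 * k)) : Fˣ) : F) * c with hc'
          have hcc : h ^ (-k) * Xf c = Xf c' * h ^ (-k) := by
            rw [hXh (-k) c', hc', ← mul_assoc, ← Units.val_mul, ← zpow_add]
            simp
          rw [hcc, show Xf c' * h ^ (-k) * (h ^ (e + -z) * g) = Xf c' * h ^ (-k + (e + -z)) * g by
            rw [zpow_add]; group]
          exact hBw _ _ _
  have htop : ∀ y : G, y ∈ Set.range f := by
    have hfin : (Set.range f).Finite := Set.finite_range f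
    have hinv : ∀ g ∈ Set.range Xf ∪ {h, w}, ∀ y ∈ Set.range f, g⁻¹ * y ∈ Set.range f := by
      intro g hg y hy
      have hb : Set.SurjOn (fun y => g * y) (Set.range f) (Set.range f) :=
        Set.Finite.surjOn_iff_bijOn_of_mapsTo hfin (fun y hy => hstep g hg y hy) |>.2
          ⟨fun y hy => hstep g hg y hy, fun y _ y' _ e => mul_left_cancel e,
            ((hfin.injOn_iff_bijOn_of_mapsTo fun y hy => hstep g hg y hy).1
              fun y _ y' _ e => mul_left_cancel e).surjOn⟩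
      obtain ⟨y', hy', rfl⟩ := hb hy
      simpa using hy'
    intro y
    have hy : y ∈ Subgroup.closure (Set.range Xf ∪ {h, w}) := by rw [hgen]; trivial
    induction hy using Subgroup.closure_induction_left with
    | one => simpa [h0] using hB 0 0
    | mul_left g hg z _ ih => exact hstep g hg z ih
    | inv_mul_cancel g hg z _ ih => exact hinv g hg z ih
  have hf : Function.Surjective f := htop
  refine ⟨Finite.of_surjective f hf, (Nat.card_le_card_of_surjective f hf).trans (le_of_eq ?_)⟩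
  simp only [Nat.card_eq_fintype_card, Fintype.card_sum, Fintype.card_prod, Fintype.card_fin]
  ring

/-- The rewriting rule for a representative of each orbit of the torus gives all rules. -/
theorem hwX_of_orbit (Xf : F → G) (h w : G) (ω : Fˣ)
    (hh : ∀ t, h * Xf t * h⁻¹ = Xf ((ω : F) ^ 2 * t)) (hwh : w * h * w⁻¹ = h⁻¹)
    (s : F) (hs : ∃ (a b : F) (k : ℤ), w * Xf s * w⁻¹ = Xf a * h ^ k * w * Xf b) (n : ℕ) :
    ∃ (a b : F) (k : ℤ), w * Xf (((ω : F) ^ 2) ^ n * s) * w⁻¹ = Xf a * h ^ k * w * Xf b := by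
  induction n with
  | zero => simpa using hs
  | succ n ih =>
    obtain ⟨a, b, k, e⟩ := ih
    have hinv : ∀ t, h⁻¹ * Xf t * h = Xf (((ω⁻¹ : Fˣ) : F) ^ 2 * t) := by
      intro t
      have := hh (((ω⁻¹ : Fˣ) : F) ^ 2 * t)
      rw [show (ω : F) ^ 2 * (((ω⁻¹ : Fˣ) : F) ^ 2 * t) = t by
        rw [← mul_assoc, ← mul_pow, Units.mul_inv, one_pow, one_mul]] at this
      conv_lhs => rw [← this]
      group
    refine ⟨((ω⁻¹ : Fˣ) : F) ^ 2 * a, ((ω⁻¹ : Fˣ) : F) ^ 2 * b, k - 2, ?_⟩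
    rw [show ((ω : F) ^ 2) ^ (n + 1) * s = (ω : F) ^ 2 * (((ω : F) ^ 2) ^ n * s) by ring, ← hh]
    calc w * (h * Xf (((ω : F) ^ 2) ^ n * s) * h⁻¹) * w⁻¹
        = (w * h * w⁻¹) * (w * Xf (((ω : F) ^ 2) ^ n * s) * w⁻¹) * (w * h * w⁻¹)⁻¹ := by group
      _ = h⁻¹ * (Xf a * h ^ k * w * Xf b) * h := by rw [hwh, e, inv_inv]
      _ = (h⁻¹ * Xf a * h) * h ^ (k - 2) * (h * w * h) * (h⁻¹ * Xf b * h) := by
          group
      _ = _ := by
          rw [hinv, hinv]
          congr 1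
          have e2 : h * w * h = w := by
            rw [mul_assoc, show w * h = h⁻¹ * w by rw [← hwh]; group, mul_inv_cancel_left]
          rw [e2]

end CfsgLib.SL2Pres
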