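import Cfsg.Agent.SL2Pres.Odd

/-! Five relations suffice for `SL₂(2^n)`. -/

set_option autoImplicit false

namespace CfsgLib.SL2Pres

open Polynomial

theorem commute_base_polyWord {G : Type*} [Group G] {p : ℕ} [Fact p.Prime] {x u : G}
    (hc : ∀ k l, Commute (conjPow x u k) (conjPow x u l)) (Q : (ZMod p)[X]) : Commute u (polyWord x u Q) := by
  refine Commute.list_prod_right _ _ fun g hg => ?_
  obtain ⟨k, -, rfl⟩ := List.mem_map.1 hg
  have := hc 0 k
  rw [conjPow_zero] at this
  exact this.pow_right _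

/-- The five relations force the words in the conjugates of `u` to descend to the field. -/
theorem even_collapse {G : Type*} [Group G] (u h w : G) (N j : ℕ) (hN : Odd N)
    (hgen : Subgroup.closure ({u, h, w} : Set G) = ⊤) (e1 : u ^ 2 = 1)
    (e2 : h ^ j * u * (h ^ j)⁻¹ = u * conjPow h u 1) (e3 : w * h * w⁻¹ = h⁻¹) (e4 : w * w = h ^ N)
    (m : (ZMod 2)[X]) (e5 : w * u * w⁻¹ = polyWord h u (1 + m) * w * polyWord h u (1 + m)) :
    w * w = 1 ∧ (∀ k l, Commute (conjPow h u k) (conjPow h u l)) ∧ polyWord h u m = 1 := by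
  have : Fact (Nat.Prime 2) := ⟨Nat.prime_two⟩
  have hu : u * u = 1 := by rw [← sq]; exact e1
  have h01 : Commute u (conjPow h u 1) := by
    have hv : conjPow h u 1 * conjPow h u 1 = 1 := by
      rw [← sq]; exact conjPow_pow_char e1 1
    have hp : (u * conjPow h u 1) * (u * conjPow h u 1) = 1 := by
      rw [← e2]
      calc h ^ j * u * (h ^ j)⁻¹ * (h ^ j * u * (h ^ j)⁻¹) = h ^ j * (u * u) * (h ^ j)⁻¹ := by group
        _ = 1 := by rw [hu]; group
    have hui : u⁻¹ = u := inv_eq_of_mul_eq_one_right hu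
    have hvi : (conjPow h u 1)⁻¹ = conjPow h u 1 := inv_eq_of_mul_eq_one_right hv
    have := eq_inv_of_mul_eq_one_left hp
    rw [_root_.mul_inv_rev, hui, hvi] at this
    exact this
  have hc := commute_conjPow_of_crw ((Commute.refl h).pow_right j) h01 e2
  set P := polyWord h u (1 + m) with hP
  set s := polyWord h u m with hs
  have hinvol : ∀ Q : (ZMod 2)[X], polyWord h u Q * polyWord h u Q = 1 := by
    intro Q
    rw [← polyWord_add hc e1, CharTwo.add_self_eq_zero, polyWord_zero]
  have hPP : P * P = 1 := hinvol _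
  have hW : w * w = 1 := by
    have h1 : (w * u * w⁻¹) * (w * u * w⁻¹) = 1 := by
      calc (w * u * w⁻¹) * (w * u * w⁻¹) = w * (u * u) * w⁻¹ := by group
        _ = 1 := by rw [hu]; group
    rw [e5] at h1
    calc w * w = P * ((P * w * P) * (P * w * P)) * P := by
          simp only [mul_assoc]
          simp [← mul_assoc P P, hPP]
      _ = 1 := by rw [h1, mul_one, hPP]
  have hwi : w⁻¹ = w := inv_eq_of_mul_eq_one_right hW
  have hPs : P = u * s := by rw [hP, hs, polyWord_add hc e1, polyWord_one]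
  -- s commutes with w
  have hsw : w * s = s * w := by
    rw [hwi] at e5
    have hui : u⁻¹ = u := inv_eq_of_mul_eq_one_right hu
    have hPi : P⁻¹ = P := inv_eq_of_mul_eq_one_right hPP
    have a1 : u = w * P * w * P * w := by
      calc u = w * (w * u * w) * w := by
            simp only [mul_assoc, hW, mul_one]; rw [← mul_assoc w w u, hW, one_mul]
        _ = _ := by rw [e5]; group
    have a2 : u * w * P = P * w * u := by
      have a3 : w * P * w = u * w * P := by
        calc w * P * w = (w * P * w * P * w) * (w⁻¹ * P⁻¹) := by group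
          _ = u * (w⁻¹ * P⁻¹) := by rw [← a1]
          _ = _ := by rw [hwi, hPi, mul_assoc]
      have a4 : (w * P * w)⁻¹ = w * P * w := by
        rw [_root_.mul_inv_rev, _root_.mul_inv_rev, hwi, hPi, mul_assoc]
      rw [a3, _root_.mul_inv_rev, _root_.mul_inv_rev, hwi, hPi, hui, ← mul_assoc] at a4
      exact a4.symm
    have hsu : Commute u s := commute_base_polyWord hc m
    have hss : s * s = 1 := hinvol m
    -- u w u s = u s w u
    rw [hPs, show u * w * (u * s) = u * (w * (u * s)) by group, show u * s * w * u = u * (s * (w * u)) by group] at a2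
    have a5 : w * (u * s) = s * (w * u) := mul_left_cancel a2
    rw [hsu.eq] at a5
    have a6 : w * s * u = s * w * u := by rw [mul_assoc, a5, mul_assoc]
    exact mul_right_cancel a6
  have hhN : h ^ N = 1 := e4.symm.trans hW
  -- the normal subgroup spanned by the conjugates of s
  let S : Set G := Set.range fun k : ℕ => h ^ k * s * (h ^ k)⁻¹
  let K := Subgroup.closure S
  have hred : ∀ k : ℕ, h ^ k = h ^ (k % N) := fun k => by
    conv_lhs => rw [← Nat.mod_add_div k N, pow_add, pow_mul, hhN, one_pow, mul_one]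
  have hSh : ∀ g ∈ ({u, h, w} : Set G), ∀ y ∈ S, g * y * g⁻¹ ∈ S := by
    rintro g hg _ ⟨k, rfl⟩
    simp only [Set.mem_insert_iff, Set.mem_singleton_iff] at hg
    rcases hg with hg | hg | hg <;> rw [hg]
    · refine ⟨k, ?_⟩
      simp only
      have hcu : Commute u (h ^ k * s * (h ^ k)⁻¹) := by
        rw [hs, polyWord_mul_X_pow hc e1]; exact commute_base_polyWord hc _
      rw [hcu.eq, mul_inv_cancel_right]
    · exact ⟨k + 1, by simp only [pow_succ']; group⟩
    · refine ⟨(N - k % N) % N, ?_⟩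
      simp only
      have h1 : h ^ ((N - k % N) % N) = (h ^ k)⁻¹ := by
        apply eq_inv_of_mul_eq_one_left
        rw [← hred, hred k, ← pow_add, Nat.sub_add_cancel (Nat.mod_lt _ hN.pos).le, hhN]
      rw [h1, inv_inv]
      have h2 : w * h ^ k * w⁻¹ = (h ^ k)⁻¹ := by rw [← conj_pow, e3, inv_pow]
      calc (h ^ k)⁻¹ * s * h ^ k = (w * h ^ k * w⁻¹) * s * (w * h ^ k * w⁻¹)⁻¹ := by rw [h2, inv_inv]
        _ = w * (h ^ k * (w⁻¹ * s * w) * (h ^ k)⁻¹) * w⁻¹ := by group
        _ = _ := by rw [show w⁻¹ * s * w = s by rw [mul_assoc, ← hsw, inv_mul_cancel_left]]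
  have hKn : ∀ g ∈ ({u, h, w} : Set G), ∀ y ∈ K, g * y * g⁻¹ ∈ K := by
    intro g hg y hy
    induction hy using Subgroup.closure_induction with
    | mem y hy => exact Subgroup.subset_closure (hSh g hg y hy)
    | one => simp
    | mul a b _ _ ha hb => rw [show g * (a * b) * g⁻¹ = (g * a * g⁻¹) * (g * b * g⁻¹) by group]; exact mul_mem ha hb
    | inv a _ ha => rw [show g * a⁻¹ * g⁻¹ = (g * a * g⁻¹)⁻¹ by group]; exact inv_mem ha
  -- the centralizer of K is normal and contains u
  have hnorm : ∀ g : G, ∀ y ∈ K, g * y * g⁻¹ ∈ K := by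
    intro g
    have hg : g ∈ Subgroup.closure ({u, h, w} : Set G) := by rw [hgen]; trivial
    have hpow : ∀ (g : G), (∀ y ∈ K, g * y * g⁻¹ ∈ K) → g ∈ ({u, h, w} : Set G) → ∀ y ∈ K, g⁻¹ * y * g ∈ K := by
      intro g hgK hg y hy
      simp only [Set.mem_insert_iff, Set.mem_singleton_iff] at hg
      rcases hg with rfl | rfl | rfl
      · have := hgK y hy
        rw [inv_eq_of_mul_eq_one_right hu] at this ⊢
        exact this
      · have hk : ∀ n : ℕ, g ^ n * y * (g ^ n)⁻¹ ∈ K := by
          intro n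
          induction n with
          | zero => simpa using hy
          | succ n ih => rw [pow_succ', show g * g ^ n * y * (g * g ^ n)⁻¹ = g * (g ^ n * y * (g ^ n)⁻¹) * g⁻¹ by group]; exact hgK _ ih
        have e : g ^ (N - 1) = g⁻¹ := by
          apply eq_inv_of_mul_eq_one_left
          rw [← pow_succ, Nat.sub_add_cancel hN.pos, hhN]
        simpa [e] using hk (N - 1)
      · have := hgK y hy
        rw [hwi] at this ⊢
        exact this
    induction hg using Subgroup.closure_induction_left with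
    | one => simp
    | mul_left g hg z _ ih => intro y hy; rw [show g * z * y * (g * z)⁻¹ = g * (z * y * z⁻¹) * g⁻¹ by group]; exact hKn g hg _ (ih y hy)
    | inv_mul_cancel g hg z _ ih =>
      intro y hy
      rw [show g⁻¹ * z * y * (g⁻¹ * z)⁻¹ = g⁻¹ * (z * y * z⁻¹) * g by group]
      exact hpow g (hKn g hg) hg _ (ih y hy)
  let C := Subgroup.centralizer (K : Set G)
  have hCn : C.Normal := by
    constructor
    intro c hc' g
    rw [Subgroup.mem_centralizer_iff] at hc' ⊢
    intro y hy
    have := hc' _ (hnorm g⁻¹ y hy)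
    rw [inv_inv] at this
    calc y * (g * c * g⁻¹) = g * ((g⁻¹ * y * g) * c) * g⁻¹ := by group
      _ = g * (c * (g⁻¹ * y * g)) * g⁻¹ := by rw [this]
      _ = _ := by group
  have huC : u ∈ C := by
    rw [Subgroup.mem_centralizer_iff]
    intro y hy
    induction hy using Subgroup.closure_induction with
    | mem y hy =>
      obtain ⟨k, rfl⟩ := hy
      simp only
      rw [hs, polyWord_mul_X_pow hc e1]; exact (commute_base_polyWord hc _).symm.eq
    | one => simp
    | mul a b _ _ ha hb => rw [mul_assoc, hb, ← mul_assoc, ha, mul_assoc]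
    | inv a _ ha => exact ((show Commute a u from ha).inv_left).eq
  have hPC : ∀ Q : (ZMod 2)[X], polyWord h u Q ∈ C := by
    intro Q
    refine C.list_prod_mem fun g hg => ?_
    obtain ⟨k, -, rfl⟩ := List.mem_map.1 hg
    exact pow_mem (hCn.conj_mem _ huC _) _
  have hwC : w ∈ C := by
    have : w = P⁻¹ * (w * u * w⁻¹) * P⁻¹ := by rw [e5]; group
    rw [this]
    exact mul_mem (mul_mem (inv_mem (hPC _)) (hCn.conj_mem _ huC _)) (inv_mem (hPC _))
  have hhC : h ∈ C := by
    have h2 : h ^ 2 ∈ C := by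
      have : h ^ 2 = (h * w * h⁻¹) * w⁻¹ := by
        rw [sq]
        calc h * h = h * (w * h * w⁻¹)⁻¹ := by rw [e3, inv_inv]
          _ = _ := by group
      rw [this]
      exact mul_mem (hCn.conj_mem _ hwC _) (inv_mem hwC)
    obtain ⟨k, hk⟩ := hN
    have : h ^ N * (h ^ (2 * k))⁻¹ = h := by rw [hk, pow_succ']; group
    rw [← this, hhN, one_mul, pow_mul]
    exact inv_mem (pow_mem h2 k)
  refine ⟨hW, hc, ?_⟩
  have hsK : s ∈ K := Subgroup.subset_closure ⟨0, by simp⟩
  have hcom : h * s = s * h := ((Subgroup.mem_centralizer_iff.1 hhC) s hsK).symm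
  have hkk : ∀ k, polyWord h u (X ^ k * m) = s := by
    intro k
    rw [← polyWord_mul_X_pow hc e1, ← hs]
    rw [((show Commute h s from hcom).pow_left k).eq, mul_inv_cancel_right]
  have hf : (X ^ j + 1 + X : (ZMod 2)[X]) ∈ annIdeal hc e1 := by
    rw [mem_annIdeal, polyWord_add hc e1, polyWord_add hc e1, polyWord_X_pow, polyWord_one, polyWord_X]
    rw [show conjPow h u j = u * conjPow h u 1 from e2, mul_assoc (u * conjPow h u 1)]
    have := hinvol (1 + X)
    rwa [polyWord_add hc e1, polyWord_one, polyWord_X] at this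
  have h3 := Ideal.mul_mem_right m _ hf
  rw [mem_annIdeal, add_mul, add_mul, polyWord_add hc e1, polyWord_add hc e1, one_mul, hkk j] at h3
  have hX1 : polyWord h u (X * m) = s := by simpa using hkk 1
  rw [hX1, ← hs, show s * s = 1 from hinvol m, one_mul] at h3
  exact h3

variable {F : Type*} [Field F] [Fintype F] [CharP F 2]

theorem presentation_even_SL :
    ∃ rels : Finset (FreeGroup (Fin 3)), rels.card ≤ 5 ∧
      Nonempty (PresentedGroup (↑rels : Set (FreeGroup (Fin 3))) ≃* Matrix.SpecialLinearGroup (Fin 2) F) := by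
  classical
  have : Fact (Nat.Prime 2) := ⟨Nat.prime_two⟩
  letI := ZMod.algebra F 2
  obtain ⟨ω, hω, hgenω⟩ := exists_generator (F := F)
  set N := Fintype.card F - 1 with hN
  have hcard := card_eq_pow (p := 2) (F := F)
  have hq1 : 1 < Fintype.card F := Fintype.one_lt_card
  have hNodd : Odd N := by
    have h2 : Even (Fintype.card F) := even_iff_two_dvd.2 (charP_dvd_card (p := 2))
    obtain ⟨k, hk⟩ := h2
    exact ⟨k - 1, by omega⟩
  have hωN : (ω : F) ^ N = 1 := by
    rw [← Units.val_pow_eq_pow_val, ← hω, pow_orderOf_eq_one, Units.val_one]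
  have hneg1 : (-1 : Fˣ) = 1 := Units.ext (by simp [CharTwo.neg_eq])
  have hwW : (wW : Matrix.SpecialLinearGroup (Fin 2) F) * wW = 1 := by rw [wW_sq, hneg1, hD_one]
  have hadj := adjoin_sq_eq_top (p := 2) hω
  set a : F := (ω : F) ^ 2 with ha
  have hsurj := surjective_aeval_of_adjoin (p := 2) hadj
  obtain ⟨half, hhalf⟩ := hNodd
  have hsq : ∀ k : ℕ, ∃ n : ℕ, (ω : F) ^ k = a ^ n := fun k => by
    refine ⟨k * (half + 1), ?_⟩
    rw [ha, ← pow_mul, show 2 * (k * (half + 1)) = N * k + k by rw [hhalf]; ring, pow_add, pow_mul, hωN, one_pow, one_mul]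
  let u : FreeGroup (Fin 3) := FreeGroup.of 0
  let h : FreeGroup (Fin 3) := FreeGroup.of 1
  let w : FreeGroup (Fin 3) := FreeGroup.of 2
  let g0 : Fin 3 → Matrix.SpecialLinearGroup (Fin 2) F := genTriple (xU (1 : F)) (hD ω) wW
  have hu0 : FreeGroup.lift g0 u = xU (1 : F) := by simp [u, g0, genTriple]
  have hh0 : FreeGroup.lift g0 h = hD ω := by simp [h, g0, genTriple]
  have hw0 : FreeGroup.lift g0 w = wW := by simp [w, g0, genTriple]
  have hgenT : Subgroup.closure (Set.range g0) = ⊤ := by
    rw [eq_top_iff, ← closure_xU_wW (F := F), Subgroup.closure_le]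
    rintro _ (⟨t, rfl⟩ | rfl)
    · obtain ⟨Q, rfl⟩ := hsurj t
      rw [SetLike.mem_coe, ← polyWord_xU]
      exact polyWord_mem _ (Subgroup.subset_closure (Set.mem_range_self (f := g0) 1)) (Subgroup.subset_closure (Set.mem_range_self (f := g0) 0)) Q
    · exact Subgroup.subset_closure ⟨2, rfl⟩
  have hbound : Fintype.card F * N * (Fintype.card F + 1) ≤ Nat.card (Matrix.SpecialLinearGroup (Fin 2) F) := by
    rw [CfsgLib.Linear.card_SL_two, mul_assoc]
    apply le_of_eq; congr 1
    rw [hN]
    zify [show 1 ≤ Fintype.card F by omega, show 1 ≤ Fintype.card F ^ 2 by nlinarith]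
    ring
  by_cases hN1 : N = 1
  · -- the field of two elements
    refine ⟨[u ^ 2, h, w * w, w * u * w⁻¹ * (u * w * u)⁻¹].toFinset, le_trans (List.toFinset_card_le _) (by simp), ?_⟩
    have hω1 : ω = 1 := Units.ext (by simpa [hN1] using hωN)
    have ht : ∀ t : F, t = 0 ∨ t = 1 := fun t => by
      by_cases h0 : t = 0
      · exact Or.inl h0
      · obtain ⟨k, rfl⟩ := hgenω t h0
        exact Or.inr (by simp [hω1])
    have hsat : ∀ r ∈ [u ^ 2, h, w * w, w * u * w⁻¹ * (u * w * u)⁻¹].toFinset, FreeGroup.lift g0 r = 1 := by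
      intro r hr
      simp only [List.mem_toFinset, List.mem_cons, List.not_mem_nil, or_false] at hr
      rcases hr with rfl | rfl | rfl | rfl
      · rw [map_pow, hu0, sq, ← xU_add, CharTwo.add_self_eq_zero, xU_zero]
      · rw [hh0, hω1, hD_one]
      · rw [map_mul, hw0, hwW]
      · simp only [map_mul, map_inv, hw0, hu0]
        have := wW_xU (1 : Fˣ)
        simp only [Units.val_one, inv_one, hD_one, mul_one, CharTwo.neg_eq] at this
        rw [this, mul_inv_cancel]
    let φ : FreeGroup (Fin 3) →* PresentedGroup (↑[u ^ 2, h, w * w, w * u * w⁻¹ * (u * w * u)⁻¹].toFinset : Set (FreeGroup (Fin 3))) :=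
      PresentedGroup.mk _
    have hrel : ∀ r ∈ [u ^ 2, h, w * w, w * u * w⁻¹ * (u * w * u)⁻¹], φ r = 1 := fun r hr =>
      PresentedGroup.one_of_mem (Finset.mem_coe.2 (List.mem_toFinset.2 hr))
    have e1 := hrel (u ^ 2) (by simp)
    have e2 := hrel h (by simp)
    have e3 := hrel (w * w) (by simp)
    have e4 := hrel (w * u * w⁻¹ * (u * w * u)⁻¹) (by simp)
    simp only [map_mul, map_inv, map_pow, mul_inv_eq_one] at e1 e3 e4
    let Xf : F → _ := fun t => if t = 0 then 1 else φ u
    have hadd : ∀ s t, Xf (s + t) = Xf s * Xf t := by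
      intro s t
      rcases ht s with rfl | rfl <;> rcases ht t with rfl | rfl <;> simp [Xf, ← sq, e1, CharTwo.add_self_eq_zero]
    obtain ⟨hfin, hc⟩ := bruhat_bound Xf (φ h) (φ w) ω 1 one_pos (by
        rw [eq_top_iff, ← PresentedGroup.closure_range_of, Subgroup.closure_le]
        rintro _ ⟨k, rfl⟩
        apply Subgroup.subset_closure
        fin_cases k
        · exact Or.inl ⟨1, if_neg one_ne_zero⟩
        · exact Or.inr (Or.inl rfl)
        · exact Or.inr (Or.inr rfl))
      hadd (fun t => by simp [e2, hω1]) (by simp [e2]) (by simp [e2]) ⟨0, by simpa using e3⟩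
      (fun t ht' => ⟨1, 1, 0, by
        rcases ht t with rfl | rfl
        · exact absurd rfl ht'
        · simp [Xf, e4]⟩)
    exact iso_of_bound _ g0 hsat hgenT hfin (hc.trans (by rw [hN1] at hbound; exact hbound))
  · have ha1 : a + 1 ≠ 0 := by
      intro h0
      have h1 : a = 1 := by
        rwa [← CharTwo.sub_eq_add, sub_eq_zero] at h0
      have h2 : ω ^ 2 = 1 := Units.ext (by rw [Units.val_pow_eq_pow_val, ← ha, h1, Units.val_one])
      have h3 := Nat.le_of_dvd two_pos (orderOf_dvd_of_pow_eq_one h2)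
      have h4 : N ≠ 2 := by intro h4; omega
      omega
    obtain ⟨k, hk⟩ := hgenω _ ha1
    obtain ⟨j, hj⟩ := hsq k
    rw [hj] at hk
    set m := minpoly (ZMod 2) a with hm
    let L : List (FreeGroup (Fin 3)) := [u ^ 2, h ^ j * u * (h ^ j)⁻¹ * (u * conjPow h u 1)⁻¹,
      w * h * w⁻¹ * h, w * w * (h ^ N)⁻¹,
      w * u * w⁻¹ * (polyWord h u (1 + m) * w * polyWord h u (1 + m))⁻¹]
    refine ⟨L.toFinset, le_trans (List.toFinset_card_le L) (by simp [L]), ?_⟩
    have hp1 : FreeGroup.lift g0 (polyWord h u (1 + m)) = xU 1 := by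
      rw [map_polyWord, hh0, hu0, polyWord_xU, map_add, map_one, hm, ← ha, minpoly.aeval, add_zero]
    have hsat : ∀ r ∈ L.toFinset, FreeGroup.lift g0 r = 1 := by
      intro r hr
      simp only [L, List.mem_toFinset, List.mem_cons, List.not_mem_nil, or_false] at hr
      rcases hr with rfl | rfl | rfl | rfl | rfl
      · rw [map_pow, hu0, sq, ← xU_add, CharTwo.add_self_eq_zero, xU_zero]
      · simp only [map_mul, map_inv, map_pow, map_conjPow, hh0, hu0]
        rw [hD_pow, hD_xU, mul_one, conjPow, pow_one, hD_xU, mul_one, ← xU_add, mul_inv_eq_one]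
        congr 1
        rw [Units.val_pow_eq_pow_val, ← pow_mul, mul_comm, pow_mul, ← ha, ← hk, add_comm]
      · rw [map_mul, map_mul, map_mul, map_inv, hw0, hh0, wW_hD, inv_mul_cancel]
      · rw [map_mul, map_inv, map_mul, map_pow, hw0, hh0, hwW, hD_pow,
          show ω ^ N = 1 from Units.ext (by rw [Units.val_pow_eq_pow_val, hωN, Units.val_one]), hD_one, inv_one, mul_one]
      · simp only [map_mul, map_inv, hw0, hu0, hp1]
        have := wW_xU (1 : Fˣ)
        simp only [Units.val_one, inv_one, hD_one, mul_one, CharTwo.neg_eq] at this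
        rw [this, mul_inv_cancel]
    let φ : FreeGroup (Fin 3) →* PresentedGroup (↑L.toFinset : Set (FreeGroup (Fin 3))) := PresentedGroup.mk _
    have hrel : ∀ r ∈ L, φ r = 1 := fun r hr =>
      PresentedGroup.one_of_mem (Finset.mem_coe.2 (List.mem_toFinset.2 hr))
    have e1 := hrel (u ^ 2) (by simp [L])
    have e2 := hrel (h ^ j * u * (h ^ j)⁻¹ * (u * conjPow h u 1)⁻¹) (by simp [L])
    have e3 := hrel (w * h * w⁻¹ * h) (by simp [L])
    have e4 := hrel (w * w * (h ^ N)⁻¹) (by simp [L])
    have e5 := hrel (w * u * w⁻¹ * (polyWord h u (1 + m) * w * polyWord h u (1 + m))⁻¹) (by simp [L])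
    simp only [map_mul, map_inv, map_pow, map_conjPow, map_polyWord, mul_inv_eq_one] at e1 e2 e4 e5
    rw [map_mul, map_mul, map_mul, map_inv, mul_eq_one_iff_eq_inv] at e3
    have hgen : Subgroup.closure ({φ u, φ h, φ w} : Set _) = ⊤ := by
      rw [eq_top_iff, ← PresentedGroup.closure_range_of, Subgroup.closure_le]
      rintro _ ⟨k, rfl⟩
      apply Subgroup.subset_closure
      fin_cases k
      · exact Or.inl rfl
      · exact Or.inr (Or.inl rfl)
      · exact Or.inr (Or.inr rfl)
    obtain ⟨hW, hc, hmm⟩ := even_collapse (φ u) (φ h) (φ w) N j ⟨half, hhalf⟩ hgen e1 e2 e3 e4 m e5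
    obtain ⟨Xf, hadd, hXf⟩ := exists_fieldHom hc e1 hsurj hmm
    have hU1 : Xf 1 = φ u := by
      have := hXf 1
      rw [polyWord_one, map_one] at this
      exact this.symm
    have hhX : ∀ t, φ h * Xf t * (φ h)⁻¹ = Xf ((ω : F) ^ 2 * t) := by
      intro t
      obtain ⟨Q, rfl⟩ := hsurj t
      rw [← hXf, polyWord_conj hc e1 (Commute.refl _) (P := X) (by rw [polyWord_X, conjPow, pow_one]), hXf,
        map_mul, aeval_X]
    have hp' : polyWord (φ h) (φ u) (1 + m) = Xf 1 := by
      rw [hXf, map_add, map_one, hm, minpoly.aeval, add_zero]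
    obtain ⟨hfin, hcd⟩ := bruhat_bound Xf (φ h) (φ w) ω N (by omega) (by
        rw [eq_top_iff, ← hgen, Subgroup.closure_le]
        rintro _ (rfl | rfl | rfl)
        · exact Subgroup.subset_closure (Or.inl ⟨1, hU1⟩)
        · exact Subgroup.subset_closure (Or.inr (Or.inl rfl))
        · exact Subgroup.subset_closure (Or.inr (Or.inr rfl)))
      hadd hhX (e4.symm.trans hW) e3 ⟨0, by rw [hW, zpow_zero]⟩ (fun t ht => by
        obtain ⟨k', rfl⟩ := hgenω t ht
        obtain ⟨n, hn⟩ := hsq k'
        rw [hn, show a ^ n = ((ω : F) ^ 2) ^ n * 1 by rw [mul_one]]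
        refine hwX_of_orbit Xf (φ h) (φ w) ω hhX e3 1 ⟨1, 1, 0, ?_⟩ n
        rw [hU1, zpow_zero, mul_one, e5, hp', hU1])
    exact iso_of_bound _ g0 hsat hgenT hfin (hcd.trans hbound)

theorem presentation_even_PSL :
    ∃ rels : Finset (FreeGroup (Fin 3)), rels.card ≤ 5 ∧
      Nonempty (PresentedGroup (↑rels : Set (FreeGroup (Fin 3))) ≃* Matrix.ProjectiveSpecialLinearGroup (Fin 2) F) := by
  obtain ⟨rels, hcard, ⟨e⟩⟩ := presentation_even_SL (F := F)
  let π := QuotientGroup.mk' (Subgroup.center (Matrix.SpecialLinearGroup (Fin 2) F))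
  have hb : Function.Bijective π := by
    refine (Nat.bijective_iff_surjective_and_card _).2 ⟨QuotientGroup.mk'_surjective _, ?_⟩
    have : Fact (Nat.Prime 2) := ⟨Nat.prime_two⟩
    letI := ZMod.algebra F 2
    rw [CfsgLib.Linear.card_SL_two]
    exact (CfsgLib.Linear.card_PSL_two_even (even_iff_two_dvd.2 (charP_dvd_card (p := 2)))).symm
  exact ⟨rels, hcard, ⟨e.trans (MulEquiv.ofBijective π hb)⟩⟩

end CfsgLib.SL2Pres
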