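import Cfsg.Agent.SL2Pres.Abelian
import Cfsg.Agent.Linear.Basic
import Cfsg.Agent.Linear.Perfect

/-! The matrices realising the short presentations of `SL₂`. -/

set_option autoImplicit false

namespace CfsgLib.SL2Pres

open Matrix Polynomial

variable {F : Type*} [Field F]

local notation "SL2" => Matrix.SpecialLinearGroup (Fin 2) F

/-- `!![1, t; 0, 1]`. -/
def xU (t : F) : SL2 := ⟨!![1, t; 0, 1], by simp [det_fin_two]⟩
/-- `!![a, 0; 0, a⁻¹]`. -/
def hD (a : Fˣ) : SL2 := ⟨!![(a : F), 0; 0, ((a⁻¹ : Fˣ) : F)], by simp [det_fin_two]⟩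
/-- `!![0, 1; -1, 0]`. -/
def wW : SL2 := ⟨!![0, 1; -1, 0], by simp [det_fin_two]⟩

theorem coe_xU (t : F) : ((xU t : SL2) : Matrix (Fin 2) (Fin 2) F) = !![1, t; 0, 1] := rfl
theorem coe_hD (a : Fˣ) : ((hD a : SL2) : Matrix (Fin 2) (Fin 2) F) = !![(a : F), 0; 0, ((a⁻¹ : Fˣ) : F)] := rfl
theorem coe_wW : ((wW : SL2) : Matrix (Fin 2) (Fin 2) F) = !![0, 1; -1, 0] := rfl

theorem xU_add (s t : F) : xU (s + t) = xU s * xU t := by
  apply Subtype.ext; simp [Matrix.SpecialLinearGroup.coe_mul, coe_xU, Matrix.mul_fin_two, add_comm]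

theorem xU_zero : (xU (0 : F) : SL2) = 1 := by
  apply Subtype.ext; simp [xU, Matrix.one_fin_two]

theorem xU_comm (s t : F) : Commute (xU s) (xU t) := by
  rw [Commute, SemiconjBy, ← xU_add, ← xU_add, add_comm]

theorem xU_pow (t : F) (n : ℕ) : xU t ^ n = xU ((n : F) * t) := by
  induction n with
  | zero => simp [xU_zero]
  | succ n ih => rw [pow_succ, ih, ← xU_add]; congr 1; push_cast; ring

theorem hD_mul (a b : Fˣ) : hD (a * b) = hD a * hD b := by
  apply Subtype.ext; simp [Matrix.SpecialLinearGroup.coe_mul, coe_hD, Matrix.mul_fin_two, mul_comm]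

theorem hD_one : (hD (1 : Fˣ) : SL2) = 1 := by
  apply Subtype.ext; simp [hD, Matrix.one_fin_two]

theorem hD_pow (a : Fˣ) (n : ℕ) : hD a ^ n = hD (a ^ n) := by
  induction n with
  | zero => simp [hD_one]
  | succ n ih => rw [pow_succ, pow_succ, ih, hD_mul]

theorem hD_inv (a : Fˣ) : (hD a)⁻¹ = hD a⁻¹ := by
  apply inv_eq_of_mul_eq_one_right; rw [← hD_mul, mul_inv_cancel, hD_one]

theorem hD_xU (a : Fˣ) (t : F) : hD a * xU t * (hD a)⁻¹ = xU ((a : F) ^ 2 * t) := by
  rw [mul_inv_eq_iff_eq_mul]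
  apply Subtype.ext
  simp [Matrix.SpecialLinearGroup.coe_mul, coe_hD, coe_xU, Matrix.mul_fin_two]
  field_simp

theorem wW_hD (a : Fˣ) : wW * hD a * wW⁻¹ = (hD a)⁻¹ := by
  rw [mul_inv_eq_iff_eq_mul, hD_inv]
  apply Subtype.ext
  simp [Matrix.SpecialLinearGroup.coe_mul, coe_hD, coe_wW, Matrix.mul_fin_two]

theorem wW_sq : wW * wW = (hD (-1 : Fˣ) : SL2) := by
  apply Subtype.ext; simp [Matrix.SpecialLinearGroup.coe_mul, coe_hD, coe_wW, Matrix.mul_fin_two]

/-- The rewriting rule `w x(t) w⁻¹ = x(-1/t) h(1/t) w x(-1/t)`. -/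
theorem wW_xU (t : Fˣ) :
    wW * xU (t : F) * wW⁻¹ = xU (-((t⁻¹ : Fˣ) : F)) * hD t⁻¹ * wW * xU (-((t⁻¹ : Fˣ) : F)) := by
  rw [mul_inv_eq_iff_eq_mul]
  apply Subtype.ext
  ext i j
  fin_cases i <;> fin_cases j <;> simp [Matrix.SpecialLinearGroup.coe_mul, coe_hD, coe_wW, coe_xU, Matrix.mul_fin_two]

theorem polyWord_xU {p : ℕ} [Fact p.Prime] [Algebra (ZMod p) F] (a : Fˣ) (Q : (ZMod p)[X]) :
    polyWord (hD a) (xU (1 : F)) Q = xU (aeval ((a : F) ^ 2) Q) := by
  have hconj : ∀ k, conjPow (hD a) (xU (1 : F)) k = xU (((a : F) ^ 2) ^ k) := by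
    intro k
    rw [conjPow, hD_pow, hD_xU, mul_one, Units.val_pow_eq_pow_val, ← pow_mul, ← pow_mul, mul_comm]
  have hval : ∀ c : ZMod p, ((c.val : ℕ) : F) = algebraMap (ZMod p) F c := by
    intro c
    conv_rhs => rw [← ZMod.natCast_zmod_val c, map_natCast]
  rw [aeval_eq_sum_range, polyWord]
  induction Q.natDegree + 1 with
  | zero => simp [xU_zero]
  | succ N ih =>
    rw [List.range_succ, List.map_append, List.prod_append, ih, Finset.sum_range_succ, xU_add,
      List.map_cons, List.map_nil, List.prod_cons, List.prod_nil, mul_one, hconj, xU_pow,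
      Algebra.smul_def, hval]

theorem closure_xU_wW : Subgroup.closure (Set.range (xU : F → SL2) ∪ {wW}) = ⊤ := by
  apply CfsgLib.Linear.sl_eq_top_of_transvections
  intro i j hij c
  have hup : ∀ c : F, (Matrix.SpecialLinearGroup.transvection (show (0 : Fin 2) ≠ 1 by decide) c) = xU c := by
    intro c
    apply Subtype.ext
    ext k l
    fin_cases k <;> fin_cases l <;> simp [coe_xU, Matrix.SpecialLinearGroup.transvection_coe, Matrix.single]
  have hlow : ∀ c : F, (Matrix.SpecialLinearGroup.transvection (show (1 : Fin 2) ≠ 0 by decide) c) =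
      wW * xU (-c) * wW⁻¹ := by
    intro c
    rw [eq_mul_inv_iff_mul_eq]
    apply Subtype.ext
    ext k l
    fin_cases k <;> fin_cases l <;> simp [Matrix.SpecialLinearGroup.coe_mul, coe_xU, coe_wW, Matrix.SpecialLinearGroup.transvection_coe, Matrix.single, Matrix.mul_apply, Fin.sum_univ_two]
  have hx : ∀ c, xU c ∈ Subgroup.closure (Set.range (xU : F → SL2) ∪ {wW}) :=
    fun c => Subgroup.subset_closure (Or.inl ⟨c, rfl⟩)
  have hw : (wW : SL2) ∈ Subgroup.closure (Set.range (xU : F → SL2) ∪ {wW}) :=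
    Subgroup.subset_closure (Or.inr rfl)
  fin_cases i <;> fin_cases j
  · exact absurd rfl hij
  · exact (hup c) ▸ hx c
  · exact (hlow c) ▸ mul_mem (mul_mem hw (hx _)) (inv_mem hw)
  · exact absurd rfl hij

/-- Assemble an isomorphism from a bound on the order. -/
theorem iso_of_bound {T : Type*} [Group T] [Finite T] (rels : Finset (FreeGroup (Fin 3))) (g : Fin 3 → T)
    (hsat : ∀ r ∈ rels, FreeGroup.lift g r = 1) (hgen : Subgroup.closure (Set.range g) = ⊤)
    (hfin : Finite (PresentedGroup (↑rels : Set (FreeGroup (Fin 3)))))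
    (hcard : Nat.card (PresentedGroup (↑rels : Set (FreeGroup (Fin 3)))) ≤ Nat.card T) :
    Nonempty (PresentedGroup (↑rels : Set (FreeGroup (Fin 3))) ≃* T) := by
  let φ := PresentedGroup.toGroup (f := g) (fun r hr => hsat r hr)
  have hs : Function.Surjective φ := by
    rw [← MonoidHom.range_eq_top, ← top_le_iff, ← hgen, Subgroup.closure_le]
    rintro _ ⟨i, rfl⟩
    exact ⟨PresentedGroup.of i, PresentedGroup.toGroup.of _⟩
  exact ⟨MulEquiv.ofBijective φ
    ((Nat.bijective_iff_surjective_and_card φ).2 ⟨hs, le_antisymm hcard (Nat.card_le_card_of_surjective φ hs)⟩)⟩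

end CfsgLib.SL2Pres
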