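import Cfsg.Agent.SL2Pres.Bruhat
import Cfsg.Agent.SL2Pres.Concrete
import Cfsg.Agent.SL2Pres.Exist

/-! Short presentations of `SL₂(q)` and `PSL₂(q)` for odd `q`. -/

set_option autoImplicit false

namespace CfsgLib.SL2Pres

open Polynomial IntermediateField

section

variable {G : Type*} [Group G] {p : ℕ} [Fact p.Prime]

/-- The generators of the presented group in the target. -/
def genTriple (u h w : G) : Fin 3 → G := ![u, h, w]

theorem polyWord_mem (H : Subgroup G) {x u : G} (hx : x ∈ H) (hu : u ∈ H) (Q : (ZMod p)[X]) :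
    polyWord x u Q ∈ H := by
  refine H.list_prod_mem fun g hg => ?_
  obtain ⟨k, -, rfl⟩ := List.mem_map.1 hg
  exact H.pow_mem (H.mul_mem (H.mul_mem (H.pow_mem hx k) hu) (H.inv_mem (H.pow_mem hx k))) _

end

variable {F : Type*} [Field F] [Fintype F] {p : ℕ} [Fact p.Prime] [Algebra (ZMod p) F]

theorem natCast_card_sub_one_ne_zero (q : ℕ) (hq : 1 ≤ q) (hdvd : p ∣ q) : ((q - 1 : ℕ) : ZMod p) ≠ 0 := by
  rw [Ne, ZMod.natCast_eq_zero_iff]
  intro h
  have h1 := (Nat.dvd_add_right h).1 (show p ∣ (q - 1) + 1 by rw [Nat.sub_add_cancel hq]; exact hdvd)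
  exact (Fact.out : p.Prime).not_dvd_one h1

theorem charP_dvd_card : p ∣ Fintype.card F := by
  rw [card_eq_pow (p := p)]
  exact dvd_pow_self p Module.finrank_pos.ne'

/-- The general construction: everything but the relation making the conjugates commute (`r3`) and the
two relations fixing `w²` and the order of `h` (`tail`). -/
theorem odd_core {T : Type*} [Group T] [Finite T] (π : Matrix.SpecialLinearGroup (Fin 2) F →* T)
    (hπ : Function.Surjective π) (ω : Fˣ) (hω : orderOf ω = Fintype.card F - 1)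
    (hgenω : ∀ t : F, t ≠ 0 → ∃ k : ℕ, t = (ω : F) ^ k)
    (i : ℕ) (hi : 0 < i) (hadj : (ZMod p)⟮((ω : F) ^ 2) ^ i⟯ = ⊤)
    (r3 : FreeGroup (Fin 3))
    (hr3 : FreeGroup.lift (genTriple (xU (1 : F)) (hD ω) wW) r3 = 1)
    (hcomm : ∀ {G : Type} [Group G] (φ : FreeGroup (Fin 3) →* G), φ r3 = 1 → φ (FreeGroup.of 0) ^ p = 1 →
      Commute (φ (FreeGroup.of 0)) (conjPow (φ (FreeGroup.of 1) ^ i) (φ (FreeGroup.of 0)) 1) →
      ∀ k l, Commute (conjPow (φ (FreeGroup.of 1) ^ i) (φ (FreeGroup.of 0)) k)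
        (conjPow (φ (FreeGroup.of 1) ^ i) (φ (FreeGroup.of 0)) l))
    (tail : List (FreeGroup (Fin 3))) (B M : ℕ) (hB : 7 + tail.length ≤ B) (hM : 0 < M)
    (hMN : M ∣ Fintype.card F - 1)
    (htail : ∀ r ∈ tail, FreeGroup.lift (genTriple (π (xU (1 : F))) (π (hD ω)) (π wW)) r = 1)
    (htail' : ∀ {G : Type} [Group G] (φ : FreeGroup (Fin 3) →* G),
      φ (FreeGroup.of 2) * φ (FreeGroup.of 1) * (φ (FreeGroup.of 2))⁻¹ = (φ (FreeGroup.of 1))⁻¹ →
      (∀ r ∈ tail, φ r = 1) → φ (FreeGroup.of 1) ^ M = 1 ∧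
        ∃ k : ℤ, φ (FreeGroup.of 2) * φ (FreeGroup.of 2) = φ (FreeGroup.of 1) ^ k)
    (hT : Fintype.card F * M * (Fintype.card F + 1) ≤ Nat.card T) :
    ∃ rels : Finset (FreeGroup (Fin 3)), rels.card ≤ B ∧
      Nonempty (PresentedGroup (↑rels : Set (FreeGroup (Fin 3))) ≃* T) := by
  classical
  set q := Fintype.card F with hq
  have hq1 : 1 < q := Fintype.one_lt_card
  set N := q - 1 with hN
  set a : F := ((ω : F) ^ 2) ^ i with ha
  set m := minpoly (ZMod p) a with hm
  have hint : IsIntegral (ZMod p) a := Algebra.IsIntegral.isIntegral a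
  have hsurj := surjective_aeval_of_adjoin (p := p) hadj
  have hωN : (ω : F) ^ N = 1 := by
    rw [← Units.val_pow_eq_pow_val, ← hω, pow_orderOf_eq_one, Units.val_one]
  have haN : a ^ N = 1 := by
    rw [ha, ← pow_mul, ← pow_mul, show 2 * (i * N) = N * (2 * i) by ring, pow_mul, hωN, one_pow]
  obtain ⟨C', hC⟩ : m ∣ X ^ N - 1 := minpoly.dvd _ _ (by simp [haN])
  have hsep : (X ^ N - 1 : (ZMod p)[X]).Separable := by
    simpa using separable_X_pow_sub_C (1 : ZMod p)
      (natCast_card_sub_one_ne_zero (p := p) q hq1.le charP_dvd_card) one_ne_zero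
  rw [hC] at hsep
  obtain ⟨s0, t0, hst⟩ := hsep.isCoprime
  obtain ⟨P0, hP0⟩ := hsurj ((ω : F) ^ 2)
  set P := P0 * (t0 * C') with hP
  have hPa : aeval a P = (ω : F) ^ 2 := by
    rw [hP, map_mul, hP0]
    have := congrArg (aeval a) hst
    rw [map_add, map_mul, hm, minpoly.aeval, mul_zero, zero_add, map_one] at this
    rw [this, mul_one]
  obtain ⟨Qw, hQw⟩ := hsurj (ω : F)
  obtain ⟨Qn, hQn⟩ := hsurj (-((ω⁻¹ : Fˣ) : F))
  let u : FreeGroup (Fin 3) := FreeGroup.of 0
  let h : FreeGroup (Fin 3) := FreeGroup.of 1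
  let w : FreeGroup (Fin 3) := FreeGroup.of 2
  let x : FreeGroup (Fin 3) := h ^ i
  let L : List (FreeGroup (Fin 3)) := [u ^ p,
    u * conjPow x u 1 * (conjPow x u 1 * u)⁻¹,
    r3,
    h * u * h⁻¹ * (polyWord x u P)⁻¹,
    w * h * w⁻¹ * h,
    w * u * w⁻¹ * (u⁻¹ * w * u⁻¹)⁻¹,
    w * polyWord x u Qw * w⁻¹ * (polyWord x u Qn * h⁻¹ * w * polyWord x u Qn)⁻¹] ++ tail
  refine ⟨L.toFinset, le_trans (List.toFinset_card_le L) (by simp [L]; omega), ?_⟩
  -- the relations hold in the target
  let g0 : Fin 3 → Matrix.SpecialLinearGroup (Fin 2) F := genTriple (xU (1 : F)) (hD ω) wW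
  let gT : Fin 3 → T := genTriple (π (xU (1 : F))) (π (hD ω)) (π wW)
  have hπlift : ∀ r, FreeGroup.lift gT r = π (FreeGroup.lift g0 r) := by
    intro r
    have : FreeGroup.lift gT = π.comp (FreeGroup.lift g0) := by
      ext k; fin_cases k <;> simp [gT, g0, genTriple]
    rw [this]; rfl
  have hx0 : FreeGroup.lift g0 x = hD (ω ^ i) := by
    simp [x, h, g0, genTriple, hD_pow]
  have hu0 : FreeGroup.lift g0 u = xU (1 : F) := by simp [u, g0, genTriple]
  have hh0 : FreeGroup.lift g0 h = hD ω := by simp [h, g0, genTriple]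
  have hw0 : FreeGroup.lift g0 w = wW := by simp [w, g0, genTriple]
  have hpw : ∀ Q : (ZMod p)[X], FreeGroup.lift g0 (polyWord x u Q) = xU (aeval a Q) := by
    intro Q
    rw [map_polyWord, hx0, hu0, polyWord_xU, ha, Units.val_pow_eq_pow_val, ← pow_mul, ← pow_mul, mul_comm]
  have hsat : ∀ r ∈ L.toFinset, FreeGroup.lift gT r = 1 := by
    intro r hr
    rw [List.mem_toFinset, List.mem_append] at hr
    rcases hr with hr | hr
    swap
    · exact htail r hr
    rw [hπlift]
    suffices FreeGroup.lift g0 r = 1 by rw [this, map_one]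
    simp only [List.mem_cons, List.not_mem_nil, or_false] at hr
    rcases hr with rfl | rfl | rfl | rfl | rfl | rfl | rfl
    · rw [map_pow, hu0, xU_pow, mul_one]
      have : ((p : ℕ) : F) = 0 := by
        rw [← map_natCast (algebraMap (ZMod p) F), ZMod.natCast_self, map_zero]
      rw [this, xU_zero]
    · rw [map_mul, map_inv, map_mul, map_mul, map_conjPow, hx0, hu0]
      have : conjPow (hD (ω ^ i)) (xU (1 : F)) 1 = xU (((ω ^ i : Fˣ) : F) ^ 2) := by
        rw [conjPow, pow_one, hD_xU, mul_one]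
      rw [this, (xU_comm _ _).eq, mul_inv_cancel]
    · exact hr3
    · rw [map_mul, map_inv, map_mul, map_mul, map_inv, hh0, hu0, hpw, hPa, hD_xU, mul_one, mul_inv_cancel]
    · rw [map_mul, map_mul, map_mul, map_inv, hw0, hh0, wW_hD, inv_mul_cancel]
    · simp only [map_mul, map_inv, hw0, hu0]
      have := wW_xU (1 : Fˣ)
      simp only [Units.val_one, inv_one, hD_one, mul_one] at this
      rw [this]
      have e : xU (-1 : F) = (xU (1 : F))⁻¹ := by
        apply eq_inv_of_mul_eq_one_left; rw [← xU_add, neg_add_cancel, xU_zero]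
      rw [e, mul_inv_cancel]
    · simp only [map_mul, map_inv, hw0, hh0, hpw, hQw, hQn, wW_xU, hD_inv, mul_inv_cancel]
  have hgenT : Subgroup.closure (Set.range gT) = ⊤ := by
    rw [eq_top_iff]
    rintro t -
    obtain ⟨g, rfl⟩ := hπ t
    have hu : π (xU 1) ∈ Subgroup.closure (Set.range gT) := Subgroup.subset_closure ⟨0, rfl⟩
    have hh : π (hD ω) ∈ Subgroup.closure (Set.range gT) := Subgroup.subset_closure ⟨1, rfl⟩
    have hw : π wW ∈ Subgroup.closure (Set.range gT) := Subgroup.subset_closure ⟨2, rfl⟩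
    have hg : g ∈ (Subgroup.closure (Set.range gT)).comap π := by
      have htop : (⊤ : Subgroup (Matrix.SpecialLinearGroup (Fin 2) F)) ≤ (Subgroup.closure (Set.range gT)).comap π := by
        rw [← closure_xU_wW (F := F), Subgroup.closure_le]
        rintro _ (⟨t, rfl⟩ | rfl)
        · obtain ⟨Q, rfl⟩ := hsurj t
          rw [← hpw, map_polyWord, hx0, hu0, SetLike.mem_coe, Subgroup.mem_comap, map_polyWord, ← hD_pow, map_pow]
          exact polyWord_mem _ (pow_mem hh i) hu Q
        · exact hw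
      exact htop trivial
    exact hg
  -- the order bound in the presented group
  set φ : FreeGroup (Fin 3) →* PresentedGroup (↑L.toFinset : Set (FreeGroup (Fin 3))) :=
    PresentedGroup.mk _ with hφ
  have hrel : ∀ r ∈ L, φ r = 1 := fun r hr =>
    PresentedGroup.one_of_mem (Finset.mem_coe.2 (List.mem_toFinset.2 hr))
  have e1 := hrel (u ^ p) (by simp [L])
  have e2 := hrel (u * conjPow x u 1 * (conjPow x u 1 * u)⁻¹) (by simp [L])
  have e3 := hrel r3 (by simp [L])
  have e4 := hrel (h * u * h⁻¹ * (polyWord x u P)⁻¹) (by simp [L])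
  have e5 := hrel (w * h * w⁻¹ * h) (by simp [L])
  have e6 := hrel (w * u * w⁻¹ * (u⁻¹ * w * u⁻¹)⁻¹) (by simp [L])
  have e7 := hrel (w * polyWord x u Qw * w⁻¹ * (polyWord x u Qn * h⁻¹ * w * polyWord x u Qn)⁻¹) (by simp [L])
  have e8 : ∀ r ∈ tail, φ r = 1 := fun r hr => hrel r (List.mem_append_right _ hr)
  simp only [map_mul, map_inv, map_pow, map_conjPow, map_polyWord, mul_inv_eq_one] at e1 e2 e4 e6 e7
  rw [map_mul, map_mul, map_mul, map_inv, mul_eq_one_iff_eq_inv] at e5
  obtain ⟨hhM, hw2⟩ := htail' φ e5 e8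
  have hxdef : φ x = φ h ^ i := map_pow φ h i
  rw [hxdef] at e2 e4 e7
  have hc := hcomm φ e3 e1 e2
  set U := φ u
  set Hh := φ h
  set W := φ w
  set X0 := Hh ^ i with hX0
  have hhN : Hh ^ N = 1 := by
    obtain ⟨c, hc'⟩ := hMN
    rw [hc', pow_mul, hhM, one_pow]
  have hgx : Commute Hh X0 := (Commute.refl Hh).pow_right i
  have hconj : ∀ Q, Hh * polyWord X0 U Q * Hh⁻¹ = polyWord X0 U (P * Q) :=
    polyWord_conj hc e1 hgx e4
  have hpowP : ∀ n, Hh ^ n * U * (Hh ^ n)⁻¹ = polyWord X0 U (P ^ n) := by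
    intro n
    induction n with
    | zero => simp [polyWord_one]
    | succ n ih =>
      rw [pow_succ' P, ← hconj, ← ih, pow_succ']; group
  have hXN : (X ^ N - 1 : (ZMod p)[X]) ∈ annIdeal hc e1 := by
    rw [mem_annIdeal, sub_eq_add_neg, polyWord_add hc e1, polyWord_neg hc e1, polyWord_one, polyWord_X_pow,
      conjPow, hX0, ← pow_mul, mul_comm, pow_mul, hhN, one_pow]
    group
  have hPX : (P ^ i - X : (ZMod p)[X]) ∈ annIdeal hc e1 := by
    rw [mem_annIdeal, sub_eq_add_neg, polyWord_add hc e1, polyWord_neg hc e1, ← hpowP, polyWord_X, conjPow,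
      pow_one, mul_inv_cancel]
  obtain ⟨D, hD'⟩ : m ∣ P ^ i - X := minpoly.dvd _ _ (by rw [map_sub, map_pow, hPa, aeval_X, ha, sub_self])
  have hmm : m ∈ annIdeal hc e1 := by
    have hCX : IsCoprime C' (X : (ZMod p)[X]) := by
      have h1 : IsCoprime (X ^ N - 1 : (ZMod p)[X]) X :=
        ⟨-1, X ^ (N - 1), by rw [← pow_succ, Nat.sub_add_cancel (by omega : 1 ≤ N)]; ring⟩
      rw [hC] at h1
      exact h1.of_mul_left_right
    obtain ⟨K, hK⟩ : C' ∣ P ^ i := (Dvd.intro_left _ rfl : C' ∣ t0 * C').mul_left P0 |>.trans (dvd_pow_self P hi.ne')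
    have h2 : IsCoprime C' (m * D) := by
      rw [← hD', hK, show C' * K - X = -X + C' * K by ring]
      exact hCX.neg_right.add_mul_left_right K
    obtain ⟨c, d, hcd⟩ := h2.of_mul_right_right
    rw [show m = c * (X ^ N - 1) + d * (P ^ i - X) by rw [hC, hD']; linear_combination -m * hcd]
    exact Ideal.add_mem _ (Ideal.mul_mem_left _ _ hXN) (Ideal.mul_mem_left _ _ hPX)
  obtain ⟨Xf, hadd, hXf⟩ := exists_fieldHom hc e1 hsurj hmm
  have hU1 : Xf 1 = U := by
    have := hXf 1
    rw [polyWord_one, map_one] at this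
    exact this.symm
  have hhX : ∀ t, Hh * Xf t * Hh⁻¹ = Xf ((ω : F) ^ 2 * t) := by
    intro t
    obtain ⟨Q, rfl⟩ := hsurj t
    rw [← hXf, hconj, hXf, map_mul, hPa]
  have hneg : ∀ t, Xf (-t) = (Xf t)⁻¹ := by
    intro t
    apply eq_inv_of_mul_eq_one_left
    rw [← hadd, neg_add_cancel]
    simpa using hadd 0 0
  have hgen : Subgroup.closure (Set.range Xf ∪ {Hh, W}) = ⊤ := by
    rw [eq_top_iff, ← PresentedGroup.closure_range_of, Subgroup.closure_le]
    rintro _ ⟨k, rfl⟩
    apply Subgroup.subset_closure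
    fin_cases k
    · exact Or.inl ⟨1, hU1⟩
    · exact Or.inr (Or.inl rfl)
    · exact Or.inr (Or.inr rfl)
  have hwX : ∀ t : F, t ≠ 0 → ∃ (b c : F) (k : ℤ), W * Xf t * W⁻¹ = Xf b * Hh ^ k * W * Xf c := by
    intro t ht
    obtain ⟨k, rfl⟩ := hgenω t ht
    obtain ⟨n, rfl | rfl⟩ := Nat.even_or_odd' k
    · rw [pow_mul, show ((ω : F) ^ 2) ^ n = ((ω : F) ^ 2) ^ n * 1 by rw [mul_one]]
      refine hwX_of_orbit Xf Hh W ω hhX e5 1 ⟨-1, -1, 0, ?_⟩ n
      rw [hneg, hU1, e6, zpow_zero, mul_one]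
    · rw [pow_succ, pow_mul]
      refine hwX_of_orbit Xf Hh W ω hhX e5 (ω : F) ⟨-((ω⁻¹ : Fˣ) : F), -((ω⁻¹ : Fˣ) : F), -1, ?_⟩ n
      have hw' : Xf (ω : F) = polyWord X0 U Qw := by rw [hXf, hQw]
      have hn' : Xf (-((ω⁻¹ : Fˣ) : F)) = polyWord X0 U Qn := by rw [hXf, hQn]
      rw [hw', hn', _root_.zpow_neg_one, e7]
  obtain ⟨hfin, hcard⟩ := bruhat_bound Xf Hh W ω M hM hgen hadd hhX hhM e5 hw2 hwX
  exact iso_of_bound _ gT hsat hgenT hfin (hcard.trans hT)

/-- A commutation relation exists for every odd field. -/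
theorem exists_third (hp : 3 ≤ p) (ω : Fˣ) (hω : orderOf ω = Fintype.card F - 1)
    (hgenω : ∀ t : F, t ≠ 0 → ∃ k : ℕ, t = (ω : F) ^ k) :
    ∃ (i : ℕ) (r3 : FreeGroup (Fin 3)), 0 < i ∧ (ZMod p)⟮((ω : F) ^ 2) ^ i⟯ = ⊤ ∧
      FreeGroup.lift (genTriple (xU (1 : F)) (hD ω) wW) r3 = 1 ∧
      ∀ {G : Type} [Group G] (φ : FreeGroup (Fin 3) →* G), φ r3 = 1 → φ (FreeGroup.of 0) ^ p = 1 →
      Commute (φ (FreeGroup.of 0)) (conjPow (φ (FreeGroup.of 1) ^ i) (φ (FreeGroup.of 0)) 1) →
      ∀ k l, Commute (conjPow (φ (FreeGroup.of 1) ^ i) (φ (FreeGroup.of 0)) k)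
        (conjPow (φ (FreeGroup.of 1) ^ i) (φ (FreeGroup.of 0)) l) := by
  rcases le_or_gt (Module.finrank (ZMod p) F) 2 with hn | hn
  · -- small degree: the minimal polynomial gives the relation
    set a : F := (ω : F) ^ 2 with ha
    have hadj : (ZMod p)⟮a⟯ = ⊤ := adjoin_sq_eq_top hω
    have hint : IsIntegral (ZMod p) a := Algebra.IsIntegral.isIntegral a
    refine ⟨1, polyWord (FreeGroup.of 1 ^ 1) (FreeGroup.of 0) (minpoly (ZMod p) a), one_pos, by rwa [pow_one], ?_, ?_⟩
    · simp [map_polyWord, genTriple, polyWord_xU, ← ha, minpoly.aeval, xU_zero]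
    · intro G _ φ hm hu h01
      rw [map_polyWord, map_pow] at hm
      set x := φ (FreeGroup.of 1) ^ 1
      set v := φ (FreeGroup.of 0)
      set n := (minpoly (ZMod p) a).natDegree with hndef
      have hn0 : 0 < n := minpoly.natDegree_pos hint
      have hn2 : n ≤ 2 := (minpoly.natDegree_le a).trans hn
      let S := Subgroup.closure ({v, conjPow x v 1} : Set G)
      have hS0 : v ∈ S := Subgroup.subset_closure (Or.inl rfl)
      have hS1 : conjPow x v 1 ∈ S := Subgroup.subset_closure (Or.inr rfl)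
      have hlast : conjPow x v n ∈ Subgroup.closure ((fun k => conjPow x v k) '' Set.Iio n) := by
        rw [polyWord_eq_range x v _ (N := n + 1) (by omega), List.range_succ, List.map_append,
          List.prod_append] at hm
        simp only [List.map_cons, List.map_nil, List.prod_cons, List.prod_nil, mul_one] at hm
        rw [show (minpoly (ZMod p) a).coeff n = 1 from (minpoly.monic hint).coeff_natDegree] at hm
        have : Fact (1 < p) := ⟨(Fact.out : p.Prime).one_lt⟩
        rw [ZMod.val_one, pow_one, mul_eq_one_iff_inv_eq] at hm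
        rw [← hm]
        refine inv_mem (Subgroup.list_prod_mem _ fun g hg => ?_)
        obtain ⟨k, hk, rfl⟩ := List.mem_map.1 hg
        refine pow_mem (Subgroup.subset_closure ?_) _
        exact ⟨k, List.mem_range.1 hk, rfl⟩
      have hle : Subgroup.closure ((fun k => conjPow x v k) '' Set.Iio n) ≤ S := by
        rw [Subgroup.closure_le]
        rintro _ ⟨k, hk, rfl⟩
        rw [Set.mem_Iio] at hk
        rcases k with _ | _ | k
        · simpa using hS0
        · exact hS1
        · omega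
      have hstep : ∀ g ∈ S, x * g * x⁻¹ ∈ S := by
        have h2 : conjPow x v 2 ∈ S := by
          rcases (show n = 1 ∨ n = 2 by omega) with h | h
          · rw [h] at hlast
            have hz : Subgroup.closure ((fun k => conjPow x v k) '' Set.Iio 1) ≤ Subgroup.zpowers v := by
              rw [Subgroup.closure_le]
              rintro _ ⟨k, hk, rfl⟩
              rw [Set.mem_Iio, Nat.lt_one_iff] at hk
              subst hk
              simp
            obtain ⟨z, hz'⟩ := hz hlast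
            have e : v ^ z = conjPow x v 1 := hz'
            rw [← conjPow_succ x v 1, ← e, ← conj_zpow]
            have : x * v * x⁻¹ = conjPow x v 1 := by simp [conjPow]
            rw [this]
            exact zpow_mem hS1 z
          · exact hle (h ▸ hlast)
        intro g hg
        induction hg using Subgroup.closure_induction with
        | mem g hg =>
          rcases hg with rfl | rfl
          · simpa [conjPow] using hS1
          · rw [conjPow_succ]; exact h2
        | one => simp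
        | mul g g' _ _ h1 h2 =>
          rw [show x * (g * g') * x⁻¹ = (x * g * x⁻¹) * (x * g' * x⁻¹) by group]
          exact S.mul_mem h1 h2
        | inv g _ h1 =>
          rw [show x * g⁻¹ * x⁻¹ = (x * g * x⁻¹)⁻¹ by group]
          exact S.inv_mem h1
      have hall : ∀ k, conjPow x v k ∈ S := by
        intro k
        induction k with
        | zero => simpa using hS0
        | succ k ih => rw [← conjPow_succ]; exact hstep _ ih
      have hcS : IsMulCommutative S := Subgroup.isMulCommutative_closure (by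
        rintro a (rfl | rfl) b (rfl | rfl)
        · rfl
        · exact h01
        · exact h01.symm
        · rfl)
      intro k l
      exact congrArg Subtype.val (hcS.is_comm.comm (⟨_, hall k⟩ : S) ⟨_, hall l⟩)
  · obtain ⟨y, z, hy, hz, hyz, hadj⟩ := exists_consecutive_squares (p := p) hp hn
    obtain ⟨k, rfl⟩ := hgenω y hy
    obtain ⟨j, rfl⟩ := hgenω z hz
    set N := Fintype.card F - 1
    have hN : 0 < N := by have := Fintype.one_lt_card (α := F); omega
    have hωN : (ω : F) ^ N = 1 := by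
      rw [← Units.val_pow_eq_pow_val, ← hω, pow_orderOf_eq_one, Units.val_one]
    refine ⟨k + N, FreeGroup.of 1 ^ j * FreeGroup.of 0 * (FreeGroup.of 1 ^ j)⁻¹ *
      (FreeGroup.of 0 * conjPow (FreeGroup.of 1 ^ (k + N)) (FreeGroup.of 0) 1)⁻¹, by omega, ?_, ?_, ?_⟩
    · rw [← pow_mul, mul_add, pow_add, mul_comm 2 N, pow_mul _ N, hωN, one_pow, mul_one, mul_comm 2, pow_mul]
      exact hadj
    · simp only [map_mul, map_inv, map_pow, map_conjPow, FreeGroup.lift_apply_of, genTriple, Matrix.cons_val_zero,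
        Matrix.cons_val_one, hD_pow, conjPow, pow_one, hD_xU, mul_one, ← xU_add]
      rw [mul_inv_eq_one, Units.val_pow_eq_pow_val, Units.val_pow_eq_pow_val, hyz]
      congr 1
      rw [pow_add, hωN, mul_one]; ring
    · intro G _ φ h3 hu h01
      simp only [map_mul, map_inv, map_pow, map_conjPow, mul_inv_eq_one] at h3
      exact commute_conjPow_of_crw ((Commute.refl _).pow_pow (k + N) j) h01 h3

theorem presentations_odd (p : ℕ) [Fact p.Prime] [CharP F p] (hodd : Odd (Fintype.card F)) :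
    (∃ rels : Finset (FreeGroup (Fin 3)), rels.card ≤ 9 ∧
      Nonempty (PresentedGroup (↑rels : Set (FreeGroup (Fin 3))) ≃* Matrix.SpecialLinearGroup (Fin 2) F)) ∧
    (∃ rels : Finset (FreeGroup (Fin 3)), rels.card ≤ 9 ∧
      Nonempty (PresentedGroup (↑rels : Set (FreeGroup (Fin 3))) ≃* Matrix.ProjectiveSpecialLinearGroup (Fin 2) F)) := by
  letI := ZMod.algebra F p
  have hp3 : 3 ≤ p := by
    have h2 := (Fact.out : p.Prime).two_le
    by_contra h
    have hd := charP_dvd_card (p := p) (F := F)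
    rw [show p = 2 by omega] at hd
    exact (Nat.not_even_iff_odd.2 hodd) (even_iff_two_dvd.2 hd)
  obtain ⟨ω, hω, hgenω⟩ := exists_generator (F := F)
  obtain ⟨i, r3, hi, hadj, hr3, hcomm⟩ := exists_third (p := p) hp3 ω hω hgenω
  obtain ⟨half, hhalf⟩ := hodd
  have hhalf0 : 0 < half := by have := Fintype.one_lt_card (α := F); omega
  have hωh : ω ^ half = -1 := by
    have h2 : ((ω : F) ^ half) ^ 2 = 1 := by
      rw [← pow_mul, ← Units.val_pow_eq_pow_val, show half * 2 = orderOf ω by rw [hω]; omega, pow_orderOf_eq_one,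
        Units.val_one]
    have h1 : (ω : F) ^ half ≠ 1 := by
      intro h
      have h' : ω ^ half = 1 := Units.ext (by rw [Units.val_pow_eq_pow_val, h, Units.val_one])
      have := Nat.le_of_dvd hhalf0 (orderOf_dvd_of_pow_eq_one h')
      omega
    apply Units.ext
    rw [Units.val_pow_eq_pow_val, Units.val_neg, Units.val_one]
    exact (sq_eq_one_iff.1 h2).resolve_left h1
  have hzC : (hD (-1 : Fˣ) : Matrix.SpecialLinearGroup (Fin 2) F) ∈
      Subgroup.center (Matrix.SpecialLinearGroup (Fin 2) F) := by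
    rw [Subgroup.mem_center_iff]
    intro g
    apply Subtype.ext
    ext k l
    fin_cases k <;> fin_cases l <;> simp [Matrix.SpecialLinearGroup.coe_mul, coe_hD, Matrix.mul_apply, Fin.sum_univ_two]
  constructor
  · refine odd_core (p := p) (MonoidHom.id _) Function.surjective_id ω hω hgenω i hi hadj r3 hr3 hcomm
      [FreeGroup.of 2 * FreeGroup.of 2 * (FreeGroup.of 1 ^ half)⁻¹] 9 (Fintype.card F - 1)
      (by simp) (by omega) dvd_rfl ?_ ?_ ?_
    · simp [genTriple, wW_sq, hD_pow, hωh]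
    · intro G _ φ h5 h8
      have h8' := h8 _ (List.mem_singleton.2 rfl)
      simp only [map_mul, map_inv, map_pow, mul_inv_eq_one] at h8'
      refine ⟨?_, half, by rw [zpow_natCast]; exact h8'⟩
      set H := φ (FreeGroup.of 1)
      set W := φ (FreeGroup.of 2)
      have h1 : W * H ^ half * W⁻¹ = (H ^ half)⁻¹ := by rw [← conj_pow, h5, inv_pow]
      have h2 : W * H ^ half * W⁻¹ = H ^ half := by rw [← h8']; group
      rw [h2] at h1
      rw [show Fintype.card F - 1 = half + half by omega, pow_add]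
      nth_rewrite 1 [h1]
      exact inv_mul_cancel _
    · rw [CfsgLib.Linear.card_SL_two, mul_assoc]
      apply le_of_eq; congr 1
      zify [show 1 ≤ Fintype.card F by omega, show 1 ≤ Fintype.card F ^ 2 by nlinarith]
      ring
  · let π := QuotientGroup.mk' (Subgroup.center (Matrix.SpecialLinearGroup (Fin 2) F))
    have hz : π (hD (-1 : Fˣ)) = 1 := (QuotientGroup.eq_one_iff _).2 hzC
    refine odd_core (p := p) π (QuotientGroup.mk'_surjective _) ω hω hgenω i hi hadj r3 hr3 hcomm
      [FreeGroup.of 2 * FreeGroup.of 2, FreeGroup.of 1 ^ half] 9 half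
      (by simp) hhalf0 ⟨2, by omega⟩ ?_ ?_ ?_
    · intro r hr
      rcases List.mem_cons.1 hr with rfl | hr
      · rw [map_mul, FreeGroup.lift_apply_of]
        change π wW * π wW = 1
        rw [← map_mul, wW_sq, hz]
      · rw [List.mem_singleton.1 hr, map_pow, FreeGroup.lift_apply_of]
        change π (hD ω) ^ half = 1
        rw [← map_pow, hD_pow, hωh, hz]
    · intro G _ φ _ h8
      refine ⟨?_, 0, ?_⟩
      · simpa using h8 _ (List.mem_cons_of_mem _ (List.mem_singleton.2 rfl))
      · simpa using h8 _ List.mem_cons_self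
    · have h := CfsgLib.Linear.card_PSL_two_odd (F := F) ⟨half, hhalf⟩
      rw [hhalf] at h ⊢
      have e : (2 * half + 1) ^ 2 - 1 = 2 * (half * (2 * half + 1 + 1)) := by
        apply Nat.sub_eq_of_eq_add; ring
      rw [e] at h
      nlinarith [h]

end CfsgLib.SL2Pres
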