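import Mathlib

/-!
# Polynomial words in conjugates of one element

`polyWord x u Q = ∏ k, (x^k u x^{-k})^{Q_k}`, and the commutation lemma of Campbell, Robertson and
Williams: `[u, u^x] = 1` and `u^y = u u^x` for commuting `x, y` make all these conjugates commute.
-/

set_option autoImplicit false

namespace CfsgLib.SL2Pres

open Polynomial

variable {G H : Type*} [Group G] [Group H]

/-- `x^k u x^{-k}`. -/
def conjPow (x u : G) (k : ℕ) : G := x ^ k * u * (x ^ k)⁻¹

@[simp] theorem conjPow_zero (x u : G) : conjPow x u 0 = u := by simp [conjPow]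

theorem conjPow_succ (x u : G) (k : ℕ) : x * conjPow x u k * x⁻¹ = conjPow x u (k + 1) := by
  simp only [conjPow, pow_succ']; group

theorem conjPow_add (x u : G) (m k : ℕ) :
    x ^ m * conjPow x u k * (x ^ m)⁻¹ = conjPow x u (m + k) := by
  simp only [conjPow, pow_add]; group

theorem map_conjPow (f : G →* H) (x u : G) (k : ℕ) : f (conjPow x u k) = conjPow (f x) (f u) k := by
  simp [conjPow]

/-- The CRW lemma. -/
theorem commute_conjPow_of_crw {x y u : G} (hxy : Commute x y) (h1 : Commute u (conjPow x u 1))
    (hy : y * u * y⁻¹ = u * conjPow x u 1) : ∀ k l, Commute (conjPow x u k) (conjPow x u l) := by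
  have hstep : ∀ k, y * conjPow x u k * y⁻¹ = conjPow x u k * conjPow x u (k + 1) := by
    intro k
    have e : y * conjPow x u k * y⁻¹ = x ^ k * (y * u * y⁻¹) * (x ^ k)⁻¹ := by
      simp only [conjPow]
      have hc : y * x ^ k = x ^ k * y := (hxy.symm.pow_right k).eq
      calc y * (x ^ k * u * (x ^ k)⁻¹) * y⁻¹ = (y * x ^ k) * u * (y * x ^ k)⁻¹ := by group
        _ = (x ^ k * y) * u * (x ^ k * y)⁻¹ := by rw [hc]
        _ = _ := by group
    rw [e, hy, ← conjPow_add x u k 1]
    simp only [conjPow]; group
  have hshift : ∀ m i, Commute u (conjPow x u i) → Commute (conjPow x u m) (conjPow x u (m + i)) := by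
    intro m i h
    rw [← conjPow_add x u m i, show conjPow x u m = x ^ m * u * (x ^ m)⁻¹ from rfl]
    exact (Commute.conj_iff _).2 h
  have main : ∀ n, Commute u (conjPow x u n) := by
    intro n
    induction n using Nat.strong_induction_on with
    | _ n ih =>
      match n with
      | 0 => simp
      | 1 => exact h1
      | n + 2 =>
        have hA : Commute u (conjPow x u (n + 1)) := ih _ (by omega)
        have hB : Commute (conjPow x u 1) (conjPow x u (n + 1)) := by
          rw [show n + 1 = 1 + n by omega]; exact hshift 1 n (ih _ (by omega))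
        have hC : Commute (conjPow x u 1) (conjPow x u (n + 2)) := by
          rw [show n + 2 = 1 + (n + 1) by omega]; exact hshift 1 (n + 1) (ih _ (by omega))
        have hD : Commute (u * conjPow x u 1) (conjPow x u (n + 1) * conjPow x u (n + 2)) := by
          rw [← hy, ← hstep (n + 1)]
          exact (Commute.conj_iff _).2 hA
        have hE : Commute (u * conjPow x u 1) (conjPow x u (n + 1)) := hA.mul_left hB
        have hF : Commute (u * conjPow x u 1) (conjPow x u (n + 2)) := by
          have := hE.inv_right.mul_right hD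
          rwa [inv_mul_cancel_left] at this
        have := hF.mul_left hC.inv_left
        rwa [mul_inv_cancel_right] at this
  intro k l
  rcases le_total k l with h | h
  · obtain ⟨i, rfl⟩ := Nat.exists_eq_add_of_le h
    exact hshift k i (main i)
  · obtain ⟨i, rfl⟩ := Nat.exists_eq_add_of_le h
    exact (hshift l i (main i)).symm

variable {p : ℕ}

/-- The word `∏ k, (x^k u x^{-k})^{Q_k}`. -/
noncomputable def polyWord (x u : G) (Q : (ZMod p)[X]) : G :=
  ((List.range (Q.natDegree + 1)).map fun k => conjPow x u k ^ (Q.coeff k).val).prod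

theorem map_polyWord (f : G →* H) (x u : G) (Q : (ZMod p)[X]) :
    f (polyWord x u Q) = polyWord (f x) (f u) Q := by
  simp only [polyWord, map_list_prod, List.map_map]
  congr 1
  exact List.map_congr_left fun k _ => by simp [map_conjPow]

theorem polyWord_eq_range (x u : G) (Q : (ZMod p)[X]) {N : ℕ} (hN : Q.natDegree < N) :
    polyWord x u Q = ((List.range N).map fun k => conjPow x u k ^ (Q.coeff k).val).prod := by
  induction N, hN using Nat.le_induction with
  | base => rfl
  | succ N hN ih =>
    rw [List.range_succ, List.map_append, List.prod_append, ← ih]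
    have : Q.coeff N = 0 := coeff_eq_zero_of_natDegree_lt hN
    simp [this]

variable [Fact p.Prime] {x u : G}

theorem conjPow_pow_char (hu : u ^ p = 1) (k : ℕ) : conjPow x u k ^ p = 1 := by
  rw [conjPow, conj_pow, hu]; group

theorem pow_val_add {g : G} (hg : g ^ p = 1) (a b : ZMod p) :
    g ^ (a + b).val = g ^ a.val * g ^ b.val := by
  rw [← pow_add, ZMod.val_add, pow_mod_of]
where
  pow_mod_of {n : ℕ} : g ^ (n % p) = g ^ n := by
    conv_rhs => rw [← Nat.mod_add_div n p, pow_add, pow_mul, hg, one_pow, mul_one]

theorem polyWord_add (hc : ∀ k l, Commute (conjPow x u k) (conjPow x u l)) (hu : u ^ p = 1)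
    (Q R : (ZMod p)[X]) : polyWord x u (Q + R) = polyWord x u Q * polyWord x u R := by
  obtain ⟨N, hQ, hR, hQR⟩ : ∃ N, Q.natDegree < N ∧ R.natDegree < N ∧ (Q + R).natDegree < N :=
    ⟨max (max Q.natDegree R.natDegree) (Q + R).natDegree + 1, by omega, by omega, by omega⟩
  rw [polyWord_eq_range x u Q hQ, polyWord_eq_range x u R hR, polyWord_eq_range x u (Q + R) hQR]
  clear hQ hR hQR
  induction N with
  | zero => simp
  | succ N ih =>
    simp only [coeff_add] at ih
    simp only [List.range_succ, List.map_append, List.prod_append, List.map_cons, List.map_nil,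
      List.prod_cons, List.prod_nil, mul_one, ih, coeff_add, pow_val_add (conjPow_pow_char hu N)]
    have hcm : Commute (conjPow x u N ^ (Q.coeff N).val)
        ((List.range N).map fun k => conjPow x u k ^ (R.coeff k).val).prod := by
      refine Commute.list_prod_right _ _ fun g hg => ?_
      obtain ⟨k, -, rfl⟩ := List.mem_map.1 hg
      exact (hc N k).pow_pow _ _
    simp only [mul_assoc]
    congr 1
    rw [← mul_assoc, ← mul_assoc, hcm.eq]

theorem polyWord_monomial (k : ℕ) (c : ZMod p) :
    polyWord x u (monomial k c) = conjPow x u k ^ c.val := by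
  rw [polyWord_eq_range x u _ (N := k + 1) (Nat.lt_succ_of_le (natDegree_monomial_le c)),
    List.range_succ, List.map_append, List.prod_append]
  rw [List.prod_eq_one]
  · simp
  · intro g hg
    obtain ⟨i, hi, rfl⟩ := List.mem_map.1 hg
    rw [List.mem_range] at hi
    simp [coeff_monomial, show k ≠ i by omega]

theorem polyWord_zero : polyWord x u (0 : (ZMod p)[X]) = 1 := by
  simpa using polyWord_monomial (x := x) (u := u) (p := p) 0 0

theorem polyWord_one : polyWord x u (1 : (ZMod p)[X]) = u := by
  rw [← monomial_zero_one, polyWord_monomial]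
  simp [ZMod.val_one]

theorem polyWord_X : polyWord x u (X : (ZMod p)[X]) = conjPow x u 1 := by
  rw [← monomial_one_one_eq_X, polyWord_monomial]
  simp [ZMod.val_one]

theorem polyWord_X_pow (k : ℕ) : polyWord x u (X ^ k : (ZMod p)[X]) = conjPow x u k := by
  rw [← monomial_one_right_eq_X_pow, polyWord_monomial]
  simp [ZMod.val_one]

/-- Conjugation by an element commuting with `x` which maps `u` to the word of `P` multiplies by `P`. -/
theorem polyWord_conj (hc : ∀ k l, Commute (conjPow x u k) (conjPow x u l)) (hu : u ^ p = 1)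
    {g : G} (hg : Commute g x) {P : (ZMod p)[X]} (hgu : g * u * g⁻¹ = polyWord x u P)
    (Q : (ZMod p)[X]) : g * polyWord x u Q * g⁻¹ = polyWord x u (P * Q) := by
  induction Q using Polynomial.induction_on' with
  | add Q R hQ hR =>
    rw [polyWord_add hc hu, mul_add, polyWord_add hc hu, ← hQ, ← hR]; group
  | monomial k c =>
    have hk : ∀ (R : (ZMod p)[X]) (k : ℕ),
        x ^ k * polyWord x u R * (x ^ k)⁻¹ = polyWord x u (X ^ k * R) := by
      intro R k
      induction R using Polynomial.induction_on' with
      | add Q R hQ hR =>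
        rw [polyWord_add hc hu, mul_add, polyWord_add hc hu, ← hQ, ← hR]; group
      | monomial j c =>
        rw [X_pow_mul_monomial, polyWord_monomial, polyWord_monomial, ← conj_pow, conjPow_add,
          Nat.add_comm]
    rw [polyWord_monomial, ← conj_pow]
    have h1 : g * conjPow x u k * g⁻¹ = polyWord x u (X ^ k * P) := by
      rw [← hk, ← hgu]
      have hc' : g * x ^ k = x ^ k * g := (hg.pow_right k).eq
      simp only [conjPow]
      calc g * (x ^ k * u * (x ^ k)⁻¹) * g⁻¹ = (g * x ^ k) * u * (g * x ^ k)⁻¹ := by group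
        _ = (x ^ k * g) * u * (x ^ k * g)⁻¹ := by rw [hc']
        _ = _ := by group
    rw [h1]
    have hn : ∀ n : ℕ, polyWord x u (X ^ k * P) ^ n = polyWord x u (n • (X ^ k * P)) := by
      intro n
      induction n with
      | zero => simp [polyWord_zero]
      | succ n ih => rw [pow_succ, ih, succ_nsmul, polyWord_add hc hu]
    rw [hn]
    congr 1
    rw [nsmul_eq_mul, ← C_eq_natCast, ZMod.natCast_zmod_val, ← C_mul_X_pow_eq_monomial]
    ring

theorem polyWord_mul_X_pow (hc : ∀ k l, Commute (conjPow x u k) (conjPow x u l)) (hu : u ^ p = 1)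
    (k : ℕ) (Q : (ZMod p)[X]) :
    x ^ k * polyWord x u Q * (x ^ k)⁻¹ = polyWord x u (X ^ k * Q) :=
  polyWord_conj hc hu ((Commute.refl x).pow_left k) (by rw [polyWord_X_pow]; rfl) Q

theorem polyWord_neg (hc : ∀ k l, Commute (conjPow x u k) (conjPow x u l)) (hu : u ^ p = 1)
    (Q : (ZMod p)[X]) : polyWord x u (-Q) = (polyWord x u Q)⁻¹ := by
  apply eq_inv_of_mul_eq_one_left
  rw [← polyWord_add hc hu, neg_add_cancel, polyWord_zero]

/-- The polynomials killing `u` form an ideal. -/
noncomputable def annIdeal (hc : ∀ k l, Commute (conjPow x u k) (conjPow x u l)) (hu : u ^ p = 1) :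
    Ideal (ZMod p)[X] where
  carrier := {Q | polyWord x u Q = 1}
  zero_mem' := polyWord_zero
  add_mem' := by
    intro Q R hQ hR
    simp only [Set.mem_ofPred_eq] at *
    rw [polyWord_add hc hu, hQ, hR, one_mul]
  smul_mem' := by
    intro R Q hQ
    simp only [Set.mem_ofPred_eq, smul_eq_mul] at *
    induction R using Polynomial.induction_on' with
    | add R S hR hS => rw [add_mul, polyWord_add hc hu, hR, hS, one_mul]
    | monomial k c =>
      rw [← C_mul_X_pow_eq_monomial, mul_assoc]
      have h1 : polyWord x u (X ^ k * Q) = 1 := by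
        rw [← polyWord_mul_X_pow hc hu, hQ]; group
      rw [show C c = ((c.val : ℕ) : (ZMod p)[X]) by rw [← C_eq_natCast, ZMod.natCast_zmod_val],
        ← nsmul_eq_mul]
      induction c.val with
      | zero => simp [polyWord_zero]
      | succ n ih => rw [succ_nsmul, polyWord_add hc hu, ih, h1, one_mul]

theorem mem_annIdeal (hc : ∀ k l, Commute (conjPow x u k) (conjPow x u l)) (hu : u ^ p = 1)
    (Q : (ZMod p)[X]) : Q ∈ annIdeal hc hu ↔ polyWord x u Q = 1 := Iff.rfl

/-- If the minimal polynomial of a generator `a` of `F` kills `u`, the word descends to `F`. -/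
theorem exists_fieldHom {F : Type*} [Field F] [Algebra (ZMod p) F] [Finite F]
    (hc : ∀ k l, Commute (conjPow x u k) (conjPow x u l)) (hu : u ^ p = 1) {a : F}
    (hsurj : Function.Surjective (Polynomial.aeval a : (ZMod p)[X] → F))
    (hm : polyWord x u (minpoly (ZMod p) a) = 1) :
    ∃ Xf : F → G, (∀ s t, Xf (s + t) = Xf s * Xf t) ∧
      (∀ Q : (ZMod p)[X], polyWord x u Q = Xf (aeval a Q)) := by
  have key : ∀ Q R : (ZMod p)[X], aeval a Q = aeval a R → polyWord x u Q = polyWord x u R := by
    intro Q R h
    have h1 : Q - R ∈ annIdeal hc hu := by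
      obtain ⟨S, hS⟩ := minpoly.dvd (ZMod p) a (p := Q - R) (by rw [map_sub, h, sub_self])
      rw [hS]
      exact Ideal.mul_mem_right _ _ hm
    rw [mem_annIdeal, sub_eq_add_neg, polyWord_add hc hu, polyWord_neg hc hu,
      mul_inv_eq_one] at h1
    exact h1
  choose sel hsel using hsurj
  refine ⟨fun t => polyWord x u (sel t), fun s t => ?_, fun Q => key _ _ (hsel _).symm⟩
  rw [← polyWord_add hc hu]
  exact key _ _ (by rw [hsel, map_add, hsel, hsel])

end CfsgLib.SL2Pres
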